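import Cfsg.Agent.Lib.OddConseq.ElemEight.CorePoints

/-!
# The counting data from the strongly embedded subgroup

The counts are read off from the action of `M` on the seven classes of involutions modulo `W`.
-/

set_option autoImplicit false
set_option linter.unusedSectionVars false
set_option linter.style.haveILetI false

namespace CfsgLib.ElemEight

open Subgroup MulAction

universe u

section General

variable {G : Type u} [Group G] [Finite G]

/-- The 2-part of an element outside a subgroup containing its square. -/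
theorem exists_part {A : Subgroup G} {g : G} (hg : g ∉ A) (h2 : g * g ∈ A)
    (hexp : ∀ x : G, x ^ 4 = 1 → x ^ 2 = 1) :
    ∃ z y : G, ∃ j : ℕ, z = g * (g * g) ^ j ∧ orderOf z = 2 ∧ z * y = g ∧ Commute z y ∧
      ¬ 2 ∣ orderOf y := by
  have hev : 2 ∣ orderOf g := by
    by_contra h
    refine hg ?_
    obtain ⟨j, hj⟩ : ∃ j, orderOf g = 2 * j + 1 := ⟨orderOf g / 2, by omega⟩
    have e : (g * g) ^ (j + 1) = g := by
      rw [← pow_two, ← pow_mul, show 2 * (j + 1) = orderOf g + 1 by omega, pow_succ, pow_orderOf_eq_one,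
        one_mul]
    exact e ▸ pow_mem h2 _
  obtain ⟨m, hm⟩ := hev
  have hpos := orderOf_pos g
  have hm2 : ¬ 2 ∣ m := by
    rintro ⟨i, rfl⟩
    have h4 : (g ^ i) ^ 4 = 1 := by
      rw [← pow_mul, show i * 4 = orderOf g by omega, pow_orderOf_eq_one]
    have h := hexp _ h4
    rw [← pow_mul] at h
    have := Nat.le_of_dvd (by omega) (orderOf_dvd_of_pow_eq_one h)
    omega
  obtain ⟨j, rfl⟩ : ∃ j, m = 2 * j + 1 := ⟨m / 2, by omega⟩
  refine ⟨g ^ (2 * j + 1), g ^ (2 * j + 2), j, ?_, ?_, ?_, Commute.pow_pow_self g _ _, ?_⟩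
  · rw [← pow_two, ← pow_mul, pow_succ']
  · rw [orderOf_pow' g (by omega), hm, Nat.gcd_eq_right (Dvd.intro_left 2 rfl),
      Nat.mul_div_cancel _ (by omega)]
  · rw [← pow_add, show 2 * j + 1 + (2 * j + 2) = orderOf g + 1 by omega, pow_succ,
      pow_orderOf_eq_one, one_mul]
  · intro h
    have hd : orderOf (g ^ (2 * j + 2)) ∣ 2 * j + 1 := by
      refine orderOf_dvd_of_pow_eq_one ?_
      rw [← pow_mul, show (2 * j + 2) * (2 * j + 1) = orderOf g * (j + 1) by rw [hm]; ring, pow_mul,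
        pow_orderOf_eq_one, one_pow]
    have := h.trans hd
    omega

end General

namespace Setup

variable {G : Type u} [Group G] [Finite G] (P : Setup G)

include P in
theorem exp_four (x : G) (h : x ^ 4 = 1) : x ^ 2 = 1 := by
  haveI : Fact (Nat.Prime 2) := ⟨Nat.prime_two⟩
  have hd : orderOf x ∣ 2 ^ 2 := orderOf_dvd_of_pow_eq_one h
  obtain ⟨i, -, hi⟩ := (Nat.dvd_prime_pow Nat.prime_two).1 hd
  obtain ⟨g, hg⟩ := CfsgLib.Invol.exists_conj_le_sylow
    (IsPGroup.of_card (n := i) (by rw [Nat.card_zpowers, hi]) : IsPGroup 2 (zpowers x)) P.S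
  have hs := P.hS.2 _ (hg x (mem_zpowers x))
  rwa [conj_pow, conj_eq_one_iff] at hs

theorem cls_unique {r r' z : G} (hr : r ∈ (P.S : Subgroup G)) (hr' : r' ∈ (P.S : Subgroup G))
    (h : r * z ∈ P.W) (h' : r' * z ∈ P.W) : r = r' := by
  refine P.eq_of_mul_mem_W hr hr' ?_
  have := mul_mem h (inv_mem h')
  rwa [mul_inv_rev, ← mul_assoc, mul_inv_cancel_right, P.inv_eq hr'] at this

theorem cls_conj {g r r' z : G} (hg : g ∈ P.M) (hr : r ∈ (P.S : Subgroup G)) (h : r * z ∈ P.W)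
    (h' : r' * (g * r * g⁻¹) ∈ P.W) : r' * (g * z * g⁻¹) ∈ P.W := by
  have := mul_mem h' (P.conj_W hg h)
  rwa [show r' * (g * r * g⁻¹) * (g * (r * z) * g⁻¹) = r' * (g * ((r * r) * z) * g⁻¹) by group,
    P.sq hr, one_mul] at this

theorem cls_mul {r r' z z' : G} (hr : r ∈ (P.S : Subgroup G)) (hr' : r' ∈ (P.S : Subgroup G))
    (h : r * z ∈ P.W) (h' : r' * z' ∈ P.W) : r * r' * (z * z') ∈ P.W := by
  have := mul_mem (P.conj_W (P.S_le_M hr') h) h'
  rwa [show r' * (r * z) * r'⁻¹ * (r' * z') = r' * r * (z * z') by group, ← P.comm hr hr'] at this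

theorem cls_invol {z : G} (hz : z ∈ P.M) (hzo : orderOf z = 2) :
    ∃ r ∈ (P.S : Subgroup G), r ≠ 1 ∧ r * z ∈ P.W := by
  obtain ⟨r, hr, hr1, a, ha, rfl⟩ := P.invol_mem_M hz hzo
  refine ⟨r, hr, hr1, ?_⟩
  have := mul_mem (P.conj_W (P.S_le_M hr) ha) (inv_mem ha)
  rw [P.inv_eq hr] at this
  simpa [mul_assoc] using this

theorem cls_exists {g r : G} (hg : g ∈ P.M) (hr : r ∈ (P.S : Subgroup G)) :
    ∃ r' ∈ (P.S : Subgroup G), r' * (g * r * g⁻¹) ∈ P.W ∧ (r' = 1 → r = 1) := by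
  by_cases hr1 : r = 1
  · exact ⟨1, one_mem _, by simp [hr1], fun _ => hr1⟩
  · obtain ⟨r', hr', h1, h⟩ := P.cls_invol (mul_mem (mul_mem hg (P.S_le_M hr)) (inv_mem hg))
      (CfsgLib.Invol.invol_conj (P.order_two hr hr1) g)
    exact ⟨r', hr', h, fun e => absurd e h1⟩

/-- The elements of `M` fixing the class of `s`. -/
def fixer {s : G} (hs : s ∈ (P.S : Subgroup G)) : Subgroup G where
  carrier := {g | g ∈ P.M ∧ s * (g * s * g⁻¹) ∈ P.W}
  one_mem' := ⟨one_mem _, by simp [P.sq hs]⟩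
  mul_mem' := fun {a b} ha hb => ⟨mul_mem ha.1 hb.1, by
    have := P.cls_conj ha.1 hs hb.2 ha.2
    simpa [mul_assoc] using this⟩
  inv_mem' := fun {a} ha => ⟨inv_mem ha.1, by
    obtain ⟨r, hr, h, -⟩ := P.cls_exists (inv_mem ha.1) hs
    have h2 := P.cls_conj (inv_mem ha.1) hs ha.2 h
    rw [show a⁻¹ * (a * s * a⁻¹) * a⁻¹⁻¹ = s by group] at h2
    rw [P.eq_of_mul_mem_W hr hs h2] at h
    exact h⟩

theorem mem_fixer {s g : G} (hs : s ∈ (P.S : Subgroup G)) :
    g ∈ P.fixer hs ↔ g ∈ P.M ∧ s * (g * s * g⁻¹) ∈ P.W := Iff.rfl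

theorem mem_fixer_of_L {s g : G} (hs : s ∈ (P.S : Subgroup G)) (hg : g ∈ P.L) : g ∈ P.fixer hs := by
  refine (sup_le (fun w hw => ?_) (fun r hr => ?_) : P.L ≤ P.fixer hs) hg
  · refine ⟨P.W_le_M hw, ?_⟩
    have := mul_mem (P.conj_W (P.S_le_M hs) hw) (inv_mem hw)
    rw [P.inv_eq hs] at this
    simpa [mul_assoc] using this
  · refine ⟨P.S_le_M hr, ?_⟩
    rw [P.comm hr hs, mul_inv_cancel_right, P.sq hs]
    exact one_mem _

theorem card_invol_coset {s : G} (hs : s ∈ (P.S : Subgroup G)) (hs1 : s ≠ 1) [IsSimpleGroup G] :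
    Nat.card {z : G // orderOf z = 2 ∧ s * z ∈ P.W} *
      Nat.card ↥(Cfsg.centralizerPPrimeCore 2 s) = Nat.card ↥P.W := by
  have hso := P.order_two hs hs1
  choose a ha hae using fun z : {z : G // orderOf z = 2 ∧ s * z ∈ P.W} =>
    exists_conj_of_coset P.odd hso z.2.1 z.2.2
  rw [← Nat.card_prod]
  refine Nat.card_congr (Equiv.ofBijective
    (fun p : {z : G // orderOf z = 2 ∧ s * z ∈ P.W} × ↥(Cfsg.centralizerPPrimeCore 2 s) =>
      (⟨a p.1 * p.2, mul_mem (ha p.1) (P.theta_le s hs hs1 p.2.2)⟩ : ↥P.W)) ⟨?_, ?_⟩)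
  · rintro ⟨z, x⟩ ⟨z', x'⟩ h
    have he : a z * (x : G) = a z' * (x' : G) := congrArg Subtype.val h
    have hfix : ∀ y : ↥(Cfsg.centralizerPPrimeCore 2 s), (y : G) * s * (y : G)⁻¹ = s := fun y => by
      rw [mem_centralizer_singleton_iff.1 (CoreBlock.core_le y.2), mul_inv_cancel_right]
    have hz : ∀ z y, a z * (y : ↥(Cfsg.centralizerPPrimeCore 2 s)) * s * (a z * (y : G))⁻¹ = (z : G) :=
      fun z y => by
        calc a z * (y : G) * s * (a z * (y : G))⁻¹ = a z * ((y : G) * s * (y : G)⁻¹) * (a z)⁻¹ := by group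
          _ = _ := by rw [hfix, hae]
    obtain rfl : z = z' := Subtype.ext (by rw [← hz z x, he, hz z' x'])
    exact Prod.ext rfl (Subtype.ext (mul_left_cancel he))
  · rintro ⟨b, hb⟩
    have hz : orderOf (b * s * b⁻¹) = 2 ∧ s * (b * s * b⁻¹) ∈ P.W :=
      ⟨CfsgLib.Invol.invol_conj hso b, (P.mem_fixer_of_L hs (le_sup_left (b := (P.S : Subgroup G)) hb)).2⟩
    have hmem : (a ⟨_, hz⟩)⁻¹ * b ∈ centralizer ({s} : Set G) ⊓ P.W := by
      refine mem_inf.2 ⟨mem_centralizer_singleton_iff.2 ?_, mul_mem (inv_mem (ha _)) hb⟩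
      have e := hae ⟨_, hz⟩
      calc (a ⟨_, hz⟩)⁻¹ * b * s = (a ⟨_, hz⟩)⁻¹ * (b * s * b⁻¹) * b := by group
        _ = (a ⟨_, hz⟩)⁻¹ * (a ⟨_, hz⟩ * s * (a ⟨_, hz⟩)⁻¹) * b := by rw [e]
        _ = s * ((a ⟨_, hz⟩)⁻¹ * b) := by group
    rw [P.inf_centralizer hs hs1] at hmem
    exact ⟨⟨⟨_, hz⟩, ⟨_, hmem⟩⟩, Subtype.ext (mul_inv_cancel_left _ _)⟩

variable [IsSimpleGroup G]

theorem twenty_five_le : 25 ≤ P.M.index := by
  classical
  haveI : Fact (Nat.Prime 2) := ⟨Nat.prime_two⟩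
  obtain ⟨o, ho⟩ : ∃ o : G ⧸ P.M, o = ((1 : G) : G ⧸ P.M) := ⟨_, rfl⟩
  have hfo : ∀ g ∈ P.M, g • o = o := fun g hg => ho ▸ CfsgLib.Invol.fixed_one_iff.2 hg
  -- some point is moved by `W`
  obtain ⟨x, w, hwW, hwx⟩ : ∃ x : G ⧸ P.M, ∃ w ∈ P.W, w • x ≠ x := by
    by_contra hno
    push Not at hno
    have hker : P.W ≤ (toPermHom G (G ⧸ P.M)).ker := fun w hw => Equiv.ext fun x => hno x w hw
    rcases IsSimpleGroup.eq_bot_or_eq_top_of_normal (toPermHom G (G ⧸ P.M)).ker inferInstance with e | e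
    · exact P.ne (le_bot_iff.1 (e ▸ hker))
    · refine P.M_ne_top (eq_top_iff.2 fun g _ => CfsgLib.Invol.fixed_one_iff.1 ?_)
      exact congrArg (fun p : Equiv.Perm (G ⧸ P.M) => p ((1 : G) : G ⧸ P.M)) (MonoidHom.mem_ker.1 (e ▸ mem_top g))
  obtain ⟨O, hO⟩ : ∃ O : Set (G ⧸ P.M), O = orbit ↥P.W x := ⟨_, rfl⟩
  have hxO : x ∈ O := hO ▸ mem_orbit_self x
  have hOo : o ∉ O := by
    intro h
    rw [hO] at h
    obtain ⟨a, ha⟩ := h
    have hxo : x = o := by
      have ha' : (a : G) • x = o := ha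
      rw [← inv_smul_smul (a : G) x, ha', hfo _ (inv_mem (P.W_le_M a.2))]
    exact hwx (hxo ▸ hfo w (P.W_le_M hwW))
  have hOcard : 3 ≤ O.ncard ∧ ¬ 2 ∣ O.ncard := by
    have hdvd : O.ncard ∣ Nat.card ↥P.W := by
      rw [hO, ← index_stabilizer]; exact index_dvd_card _
    have hodd : ¬ 2 ∣ O.ncard := fun h => P.odd (h.trans hdvd)
    have h2 : 2 ≤ O.ncard := (Set.one_lt_ncard_iff (Set.toFinite O)).2
      ⟨x, w • x, hxO, hO ▸ ⟨⟨w, hwW⟩, rfl⟩, Ne.symm hwx⟩
    exact ⟨by omega, hodd⟩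
  have hmove : ∀ s ∈ (P.S : Subgroup G), s ≠ 1 → ∀ y ∈ O, s • y ∉ O := by
    intro s hs hs1 y hy hsy
    have hso := P.order_two hs hs1
    have hstab : ∀ z ∈ O, s • z ∈ O := by
      intro z hz
      rw [hO] at hy hz hsy ⊢
      rw [← orbit_eq_iff.2 hsy]
      rw [← orbit_eq_iff.2 hy] at hz
      obtain ⟨a, rfl⟩ := hz
      refine ⟨⟨s * (a : G) * s⁻¹, P.conj_W (P.S_le_M hs) a.2⟩, ?_⟩
      show (s * (a : G) * s⁻¹) • (s • y) = s • ((a : G) • y)
      simp [mul_smul]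
    letI := Fintype.ofFinite ↥O
    let σ : Equiv.Perm ↥O := Function.Involutive.toPerm (fun z => ⟨s • (z : G ⧸ P.M), hstab _ z.2⟩)
      fun z => Subtype.ext (CfsgLib.Invol.invol_smul_smul hso _)
    obtain ⟨z, hz⟩ := Equiv.Perm.exists_fixed_point_of_prime (p := 2) (n := 1) (α := ↥O)
      (σ := σ) (by rw [← Nat.card_eq_fintype_card, Nat.card_coe_set_eq]; exact hOcard.2)
      (by rw [pow_one, pow_two]; exact Equiv.ext fun z => Subtype.ext (CfsgLib.Invol.invol_smul_smul hso (z : G ⧸ P.M)))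
    refine hOo ?_
    rw [← CfsgLib.Invol.fixed_unique P.stronglyEmbedded hso (congrArg Subtype.val hz) (hfo s (P.S_le_M hs))]
    exact z.2
  have hinj : Function.Injective (fun p : ↥(P.S : Subgroup G) × ↥O =>
      (⟨(p.1 : G) • (p.2 : G ⧸ P.M), fun e => hOo (by
        have h : (p.2 : G ⧸ P.M) = o := by
          rw [← inv_smul_smul (p.1 : G) (p.2 : G ⧸ P.M), e, hfo _ (inv_mem (P.S_le_M p.1.2))]
        exact h ▸ p.2.2)⟩ : {z : G ⧸ P.M // z ≠ o})) := by
    rintro ⟨s, y⟩ ⟨s', y'⟩ h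
    have he : (s : G) • (y : G ⧸ P.M) = (s' : G) • (y' : G ⧸ P.M) := congrArg Subtype.val h
    have he' : ((s' : G)⁻¹ * (s : G)) • (y : G ⧸ P.M) = y' := by rw [mul_smul, he, inv_smul_smul]
    by_cases hss : (s' : G)⁻¹ * (s : G) = 1
    · rw [hss, one_smul] at he'
      exact Prod.ext (Subtype.ext (inv_mul_eq_one.1 hss).symm) (Subtype.ext he')
    · exact absurd (he' ▸ y'.2) (hmove _ (mul_mem (inv_mem s'.2) s.2) hss _ y.2)
  have hle := Nat.card_le_card_of_injective _ hinj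
  rw [Nat.card_prod, P.hS8, Nat.card_coe_set_eq] at hle
  haveI := Fintype.ofFinite (G ⧸ P.M)
  rw [Nat.card_eq_fintype_card, Fintype.card_subtype_compl (fun z : G ⧸ P.M => z = o),
    Fintype.card_subtype_eq, ← Nat.card_eq_fintype_card, ← index_eq_card] at hle
  omega

include P in
theorem nonempty_countData : Nonempty (CountData G) := by
  classical
  haveI : Fact (Nat.Prime 2) := ⟨Nat.prime_two⟩
  haveI := Fintype.ofFinite G
  obtain ⟨t, htS, ht⟩ := CfsgLib.Invol.exists_invol_mem (H := (P.S : Subgroup G)) (by rw [P.hS8]; decide)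
  have ht1 : t ≠ 1 := fun e => by rw [e, orderOf_one] at ht; norm_num at ht
  obtain ⟨C, hC⟩ : ∃ C, C = centralizer ({t} : Set G) := ⟨_, rfl⟩
  obtain ⟨X, hX⟩ : ∃ X, X = Cfsg.centralizerPPrimeCore 2 t := ⟨_, rfl⟩
  have hSC : (P.S : Subgroup G) ≤ C := fun s hs => hC ▸ mem_centralizer_singleton_iff.2 (P.comm hs htS)
  have hCM : C ≤ P.M := hC ▸ P.centralizer_le_M htS ht1
  have hCX : C ⊓ P.W = X := hC ▸ hX ▸ P.inf_centralizer htS ht1
  have hXC : X ≤ C := hCX ▸ inf_le_left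
  have hXW : X ≤ P.W := hCX ▸ inf_le_right
  have hXnorm : C ≤ normalizer (X : Set G) := fun c hc => by
    rw [mem_normalizer_iff_map_conj_eq, hX]
    show (Cfsg.centralizerPPrimeCore 2 t).map (MulAut.conj c).toMonoidHom = _
    rw [← CfsgLib.TwoGenCore.theta_conj]
    rw [hC, mem_centralizer_singleton_iff] at hc
    rw [hc, mul_inv_cancel_right]
  -- orders
  have hS8X : Nat.card ↥((P.S : Subgroup G) ⊔ X) = 8 * Nat.card ↥X := by
    have h := card_sup_mul (hSC.trans hXnorm)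
    have hbot : (P.S : Subgroup G) ⊓ X = ⊥ := (Subgroup.eq_bot_iff_forall _).2 fun s hs =>
      P.eq_one_of_mem_W (mem_inf.1 hs).1 (hXW (mem_inf.1 hs).2)
    rwa [hbot, card_bot, mul_one, P.hS8] at h
  obtain ⟨e, he⟩ : 8 * Nat.card ↥X ∣ Nat.card ↥C := hS8X ▸ card_dvd_of_le (sup_le hSC hXC)
  have hCe : Nat.card ↥C = 8 * e * Nat.card ↥X := by rw [he]; ring
  have hS2 := P.S.not_dvd_index
  have hScard := (P.S : Subgroup G).card_mul_index
  rw [P.hS8] at hScard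
  have heodd : Odd e := by
    rw [← Nat.not_even_iff_odd, even_iff_two_dvd]
    rintro ⟨f, rfl⟩
    obtain ⟨r, hr⟩ := C.card_subgroup_dvd_card
    rw [hCe, ← hScard] at hr
    refine hS2 ⟨f * Nat.card ↥X * r, ?_⟩
    linarith
  obtain ⟨q, hq⟩ : Nat.card ↥X ∣ Nat.card ↥P.W := card_dvd_of_le hXW
  have hXpos : 0 < Nat.card ↥X := Nat.card_pos
  have hqpos : 0 < q := by
    rcases Nat.eq_zero_or_pos q with h | h
    · have : 0 < Nat.card ↥P.W := Nat.card_pos
      rw [hq, h, mul_zero] at this; omega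
    · exact h
  obtain ⟨K, hK⟩ : ∃ K, K = C ⊔ P.W := ⟨_, rfl⟩
  have hCNW : C ≤ normalizer (P.W : Set G) := hCM.trans P.M_le_NW
  have hKM : K ≤ P.M := hK ▸ sup_le hCM P.W_le_M
  have hKcard : Nat.card ↥K = 8 * e * Nat.card ↥P.W := by
    have h := card_sup_mul hCNW
    rw [← hK, hCX, hCe] at h
    exact Nat.eq_of_mul_eq_mul_right hXpos (by rw [h]; ring)
  have hsplitK : ∀ g ∈ K, ∃ w ∈ P.W, ∃ c ∈ C, g = w * c := fun g hg =>
    mem_split hCNW (by rw [sup_comm, ← hK]; exact hg)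
  have hKfix : ∀ g, g ∈ K ↔ g ∈ P.fixer htS := by
    intro g
    refine ⟨fun hg => ?_, fun hg => ?_⟩
    · refine (hK ▸ sup_le (fun c hc => ⟨hCM hc, ?_⟩) (fun w hw => P.mem_fixer_of_L htS
        (le_sup_left (b := (P.S : Subgroup G)) hw)) : K ≤ P.fixer htS) hg
      rw [hC, mem_centralizer_singleton_iff] at hc
      rw [hc, mul_inv_cancel_right, P.sq htS]
      exact one_mem _
    · obtain ⟨a, ha, hae⟩ := exists_conj_of_coset P.odd ht (CfsgLib.Invol.invol_conj ht g) hg.2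
      have hac : a⁻¹ * g ∈ C := by
        rw [hC, mem_centralizer_singleton_iff]
        calc a⁻¹ * g * t = a⁻¹ * (g * t * g⁻¹) * g := by group
          _ = a⁻¹ * (a * t * a⁻¹) * g := by rw [hae]
          _ = t * (a⁻¹ * g) := by group
      rw [hK, sup_comm]
      have := mul_mem_sup ha hac
      rwa [mul_inv_cancel_left] at this
  -- the transfer
  letI : CommGroup ↥(P.S : Subgroup G) :=
    { (inferInstance : Group ↥(P.S : Subgroup G)) with mul_comm := fun a b => Subtype.ext (P.comm a.2 b.2) }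
  obtain ⟨V, hV⟩ : ∃ V : ↥C →* ↥(P.S : Subgroup G),
      V = MonoidHom.transfer (subgroupOfEquivOfLe hSC).toMonoidHom := ⟨_, rfl⟩
  have hVt : ∀ h : t ∈ C, V ⟨t, h⟩ = ⟨t, htS⟩ := by
    intro h
    have hidx : ((P.S : Subgroup G).subgroupOf C).index = e * Nat.card ↥X := by
      have h1 := ((P.S : Subgroup G).subgroupOf C).card_mul_index
      rw [Nat.card_congr (subgroupOfEquivOfLe hSC).toEquiv, P.hS8, hCe] at h1
      exact Nat.eq_of_mul_eq_mul_left (by norm_num : 0 < 8) (by rw [h1]; ring)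
    rw [hV, MonoidHom.transfer_eq_pow]
    · refine Subtype.ext ?_
      show ((⟨t, h⟩ : ↥C) ^ _ : ↥C).1 = t
      rw [SubgroupClass.coe_pow, hidx]
      obtain ⟨j, hj⟩ := heodd.mul (show Odd (Nat.card ↥X) from Nat.not_even_iff_odd.1 fun h =>
        P.odd ((even_iff_two_dvd.1 h).trans ⟨q, hq⟩))
      rw [hj, pow_succ, pow_mul, pow_two, P.sq htS, one_pow, one_mul]
    · intro k g₀ _
      have hcm : Commute (⟨t, h⟩ : ↥C) g₀ := Subtype.ext
        (mem_centralizer_singleton_iff.1 (hC ▸ g₀.2 : (g₀ : G) ∈ centralizer ({t} : Set G))).symm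
      rw [mul_assoc, (hcm.pow_left k).eq, inv_mul_cancel_left]
  have hVX : ∀ c : ↥C, (c : G) ∈ P.W → V c = 1 := by
    intro c hc
    have h1 : orderOf (V c) ∣ 2 := orderOf_dvd_of_pow_eq_one (Subtype.ext (by
      rw [SubgroupClass.coe_pow]; exact P.hS.2 _ (V c).2))
    rcases (Nat.dvd_prime Nat.prime_two).1 h1 with h | h
    · exact orderOf_eq_one_iff.1 h
    · have h2 := orderOf_map_dvd V c
      rw [h, ← Subgroup.orderOf_coe] at h2
      exact absurd (h2.trans (Subgroup.orderOf_dvd_natCard P.W hc)) P.odd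
  -- a maximal subgroup of `S` avoiding `t`
  obtain ⟨H, hHt, hHmax⟩ : ∃ H : Subgroup ↥(P.S : Subgroup G), (⟨t, htS⟩ : ↥(P.S : Subgroup G)) ∉ H ∧
      ∀ x : ↥(P.S : Subgroup G), x ∉ H → (⟨t, htS⟩ : ↥(P.S : Subgroup G)) * x ∈ H := by
    obtain ⟨H, hH⟩ := (Set.toFinite {H : Subgroup ↥(P.S : Subgroup G) | (⟨t, htS⟩ : ↥(P.S : Subgroup G)) ∉ H}).exists_maximal
      ⟨⊥, fun h => ht1 (congrArg Subtype.val (mem_bot.1 h))⟩
    refine ⟨H, hH.1, fun x hx => ?_⟩
    have hlt : (⟨t, htS⟩ : ↥(P.S : Subgroup G)) ∈ H ⊔ zpowers x := by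
      by_contra hno
      exact hx (hH.2 hno le_sup_left ((le_sup_right (a := H)) (mem_zpowers x)))
    obtain ⟨a, ha, b, hb, hab⟩ := mem_sup.1 hlt
    obtain ⟨i, hi⟩ := hb
    simp only at hi
    have hx2 : x * x = 1 := Subtype.ext (P.sq x.2)
    rcases Int.even_or_odd i with ⟨j, hj⟩ | ⟨j, hj⟩
    · exfalso
      have hb1 : b = 1 := by rw [← hi, hj, ← two_mul, zpow_mul, zpow_two, hx2, one_zpow]
      rw [hb1, mul_one] at hab
      exact hH.1 (hab ▸ ha)
    · have hbx : b = x := by rw [← hi, hj, zpow_add, zpow_mul, zpow_two, hx2, one_zpow, one_mul, zpow_one]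
      rw [← hab, hbx, mul_assoc, hx2, mul_one]
      exact ha
  obtain ⟨K1, hK1⟩ : ∃ K1, K1 = P.W ⊔ (H.comap V).map C.subtype := ⟨_, rfl⟩
  have hK1K : K1 ≤ K := hK1 ▸ hK ▸ sup_le le_sup_right ((map_subtype_le _).trans le_sup_left)
  have hWK1 : P.W ≤ K1 := hK1 ▸ le_sup_left
  have hcrit : ∀ {w : G} (_ : w ∈ P.W) (c : ↥C), w * (c : G) ∈ K1 ↔ V c ∈ H := by
    intro w hw c
    refine ⟨fun h => ?_, fun h => hK1 ▸ mul_mem_sup hw ⟨c, h, rfl⟩⟩
    rw [hK1] at h
    obtain ⟨w', hw', c', ⟨d, hd, rfl⟩, hee⟩ := mem_split ((map_subtype_le _).trans hCNW) h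
    have hmem : ((c * d⁻¹ : ↥C) : G) ∈ P.W := by
      have : (c : G) * (d : G)⁻¹ = w⁻¹ * w' := by
        have hee' : w * (c : G) = w' * (d : G) := hee
        calc (c : G) * (d : G)⁻¹ = w⁻¹ * (w * (c : G)) * (d : G)⁻¹ := by group
          _ = w⁻¹ * w' := by rw [hee']; group
      rw [Subgroup.coe_mul, InvMemClass.coe_inv, this]
      exact mul_mem (inv_mem hw) hw'
    have hVd := hVX _ hmem
    rw [map_mul, map_inv, mul_inv_eq_one] at hVd
    rw [hVd]; exact hd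
  have htC : t ∈ C := hSC htS
  have htK : t ∈ K := hK ▸ le_sup_left (b := P.W) htC
  have htK1 : t ∉ K1 := by
    intro h
    have := (hcrit (one_mem P.W) ⟨t, htC⟩).1 (by rwa [one_mul])
    rw [hVt] at this
    exact hHt this
  have htwo : ∀ x ∈ K, x ∉ K1 → ∀ y ∈ K, y ∉ K1 → x * y ∈ K1 := by
    intro x hx hx1 y hy hy1
    obtain ⟨w, hw, c, hc, rfl⟩ := hsplitK x hx
    obtain ⟨w', hw', c', hc', rfl⟩ := hsplitK y hy
    have hVc : V ⟨c, hc⟩ ∉ H := fun h => hx1 ((hcrit hw ⟨c, hc⟩).2 h)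
    have hVc' : V ⟨c', hc'⟩ ∉ H := fun h => hy1 ((hcrit hw' ⟨c', hc'⟩).2 h)
    rw [show w * c * (w' * c') = (w * (c * w' * c⁻¹)) * (c * c') by group]
    refine (hcrit (mul_mem hw (P.conj_W (hCM hc) hw')) (⟨c, hc⟩ * ⟨c', hc'⟩)).2 ?_
    rw [map_mul]
    have := mul_mem (inv_mem (hHmax _ hVc)) (hHmax _ hVc')
    have e2 : ((⟨t, htS⟩ : ↥(P.S : Subgroup G)) * V ⟨c, hc⟩)⁻¹ * (⟨t, htS⟩ * V ⟨c', hc'⟩) =
        (V ⟨c, hc⟩)⁻¹ * V ⟨c', hc'⟩ := by group
    rw [e2] at this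
    rwa [show (V ⟨c, hc⟩)⁻¹ = V ⟨c, hc⟩ from Subtype.ext (P.inv_eq (V ⟨c, hc⟩).2)] at this
  have hhalf : Nat.card ↥K = 2 * Nat.card ↥K1 := by
    have h2 : (K1.subgroupOf K).index = 2 := by
      refine index_eq_two_iff.2 ⟨⟨t, htK⟩, fun b => ?_⟩
      simp only [mem_subgroupOf, Subgroup.coe_mul]
      by_cases hb : (b : G) ∈ K1
      · exact Or.inr ⟨hb, fun h => htK1 (by simpa using mul_mem (inv_mem hb) h)⟩
      · exact Or.inl ⟨htwo _ b.2 hb _ htK htK1, hb⟩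
    have h1 := (K1.subgroupOf K).card_mul_index
    rw [h2, Nat.card_congr (subgroupOfEquivOfLe hK1K).toEquiv] at h1
    omega
  have hsq : ∀ k ∈ K, k ∉ K1 → k * k ∈ K1 := fun k hk hk1 => htwo k hk hk1 k hk hk1
  have hSK : (P.S : Subgroup G) ≤ K := hK ▸ hSC.trans le_sup_left
  have hcls_supp : ∀ {r z : G}, r ∈ (P.S : Subgroup G) → r * z ∈ P.W →
      z ∈ K ∧ (z ∈ K1 ↔ r ∈ K1) := by
    intro r z hr h
    have hz : z = r * (r * z) := by rw [← mul_assoc, P.sq hr, one_mul]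
    refine ⟨hz ▸ mul_mem (hSK hr) (hK1K (hWK1 h)), fun h1 => ?_, fun h1 => hz ▸ mul_mem h1 (hWK1 h)⟩
    have := mul_mem (hWK1 h) (inv_mem h1)
    rwa [mul_inv_cancel_right] at this
  have hpart : ∀ k ∈ K, k ∉ K1 → ∃ z y : G, orderOf z = 2 ∧ z ∈ K ∧ z ∉ K1 ∧ z * y = k ∧ Commute z y ∧
      ¬ 2 ∣ orderOf y ∧ ∃ j : ℕ, z = k * (k * k) ^ j := by
    intro k hk hk1
    obtain ⟨z, y, j, hz, hzo, hzy, hcomm, hy⟩ := exists_part hk1 (hsq k hk hk1) P.exp_four
    refine ⟨z, y, hzo, hz ▸ mul_mem hk (pow_mem (mul_mem hk hk) _), ?_, hzy, hcomm, hy, j, hz⟩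
    intro h
    have := mul_mem h (inv_mem (pow_mem (hsq k hk hk1) j))
    rw [hz, mul_inv_cancel_right] at this
    exact hk1 this
  -- conjugators
  choose ν hνN hνt using fun s : {s : ↥(P.S : Subgroup G) // s ≠ 1} =>
    P.exists_normalizer_conj htS s.1.2 ht1 (fun e => s.2 (Subtype.ext e))
  have hνM : ∀ s, ν s ∈ P.M := fun s => P.N_le_M (hνN s)
  have hνK : ∀ (s : {s : ↥(P.S : Subgroup G) // s ≠ 1}) {k : G}, k ∈ K →
      (s.1 : G) * (ν s * k * t * (ν s * k)⁻¹) ∈ P.W := by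
    intro s k hk
    have h := P.cls_conj (hνM s) htS ((hKfix k).1 hk).2 (r' := (s.1 : G)) (by rw [hνt, P.sq s.1.2]; exact one_mem _)
    rwa [show ν s * (k * t * k⁻¹) * (ν s)⁻¹ = ν s * k * t * (ν s * k)⁻¹ by group] at h
  have hν_exists : ∀ x ∈ P.M, ∃ s : {s : ↥(P.S : Subgroup G) // s ≠ 1},
      (s.1 : G) * (x * t * x⁻¹) ∈ P.W ∧ (ν s)⁻¹ * x ∈ K := by
    intro x hx
    obtain ⟨r, hr, hrW, hr1⟩ := P.cls_exists hx htS
    refine ⟨⟨⟨r, hr⟩, fun e => ht1 (hr1 (congrArg Subtype.val e))⟩, hrW, (hKfix _).2 ⟨mul_mem (inv_mem (hνM _)) hx, ?_⟩⟩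
    have h := P.cls_conj (inv_mem (hνM ⟨⟨r, hr⟩, fun e => ht1 (hr1 (congrArg Subtype.val e))⟩)) hr hrW
      (r' := t) (by
        have hs := hνt ⟨⟨r, hr⟩, fun e => ht1 (hr1 (congrArg Subtype.val e))⟩
        simp only at hs
        have e2 : ∀ v : G, v * t * v⁻¹ = r → t * (v⁻¹ * r * v⁻¹⁻¹) ∈ P.W := fun v hv => by
          rw [← hv, show v⁻¹ * (v * t * v⁻¹) * v⁻¹⁻¹ = t by group, P.sq htS]; exact one_mem _
        exact e2 _ hs)
    simpa [mul_assoc] using h
  have hν_inj : ∀ (s s' : {s : ↥(P.S : Subgroup G) // s ≠ 1}) (k k' : G), k ∈ K → k' ∈ K →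
      ν s * k = ν s' * k' → s = s' ∧ k = k' := by
    intro s s' k k' hk hk' h
    have h1 := hνK s hk
    rw [h] at h1
    obtain rfl : s = s' := Subtype.ext (Subtype.ext (P.cls_unique s.1.2 s'.1.2 h1 (hνK s' hk')))
    exact ⟨rfl, mul_left_cancel h⟩
  have hSne : Nat.card {s : ↥(P.S : Subgroup G) // s ≠ 1} = 7 := by
    haveI := Fintype.ofFinite ↥(P.S : Subgroup G)
    rw [Nat.card_eq_fintype_card, Fintype.card_subtype_compl (fun s : ↥(P.S : Subgroup G) => s = 1),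
      Fintype.card_subtype_eq, ← Nat.card_eq_fintype_card, P.hS8]
  have hMcard : Nat.card ↥P.M = 7 * Nat.card ↥K := by
    rw [← hSne, ← Nat.card_prod]
    refine (Nat.card_congr (Equiv.ofBijective
      (fun p : {s : ↥(P.S : Subgroup G) // s ≠ 1} × ↥K => (⟨ν p.1 * p.2, mul_mem (hνM p.1) (hKM p.2.2)⟩ : ↥P.M))
      ⟨fun p p' h => ?_, fun x => ?_⟩)).symm
    · obtain ⟨h1, h2⟩ := hν_inj p.1 p'.1 p.2 p'.2 p.2.2 p'.2.2 (congrArg Subtype.val h)
      exact Prod.ext h1 (Subtype.ext h2)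
    · obtain ⟨s, -, hk⟩ := hν_exists x x.2
      exact ⟨⟨s, ⟨_, hk⟩⟩, Subtype.ext (mul_inv_cancel_left _ _)⟩
  obtain ⟨n, hn⟩ : ∃ n, n = P.M.index := ⟨_, rfl⟩
  have hG : Nat.card G = n * (7 * Nat.card ↥K) := by rw [← hMcard, hn, index_mul_card]
  have hone : ∀ g : G, orderOf g = 2 → IsConj t g := fun g hg =>
    CfsgLib.Invol.exists_conj_fixing P.stronglyEmbedded ht hg
  -- the cosets of involutions
  have hθ : ∀ s : {s : ↥(P.S : Subgroup G) // s ≠ 1},
      Nat.card {z : G // orderOf z = 2 ∧ (s.1 : G) * z ∈ P.W} = q := by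
    intro s
    have h := P.card_invol_coset s.1.2 fun e => s.2 (Subtype.ext e)
    rw [← hνt s, CfsgLib.TwoGenCore.theta_conj, card_map_of_injective (MulAut.conj _).injective, ← hX, hq] at h
    rw [← hνt s]
    exact Nat.eq_of_mul_eq_mul_right hXpos (by rw [h, mul_comm])
  -- elements of `S` outside `K1`
  obtain ⟨A, hA⟩ : ∃ A : Finset ↥(P.S : Subgroup G), A = Finset.univ.filter (fun s : ↥(P.S : Subgroup G) => (s : G) ∉ K1) :=
    ⟨_, rfl⟩
  have hA4 : A.card = 4 := by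
    have hswap : A.card = (Finset.univ.filter (fun s : ↥(P.S : Subgroup G) => (s : G) ∈ K1)).card := by
      rw [hA]
      refine Finset.card_equiv (Equiv.mulLeft (⟨t, htS⟩ : ↥(P.S : Subgroup G))) fun s => ?_
      simp only [Finset.mem_filter, Finset.mem_univ, true_and, Equiv.coe_mulLeft, Subgroup.coe_mul]
      exact ⟨fun h => htwo t htK htK1 _ (hSK s.2) h, fun h h' => htK1 (by simpa using mul_mem h (inv_mem h'))⟩
    have htot := Finset.card_filter_add_card_filter_not (s := (Finset.univ : Finset ↥(P.S : Subgroup G)))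
      (fun s : ↥(P.S : Subgroup G) => (s : G) ∈ K1)
    rw [Finset.card_univ, ← Nat.card_eq_fintype_card, P.hS8, ← hswap, ← hA] at htot
    omega
  have hA1 : ∀ s ∈ A, s ≠ 1 := fun s hs e => by
    rw [hA] at hs
    exact (Finset.mem_filter.1 hs).2 (e ▸ one_mem _)
  have hcount : Nat.card {x : G // x * t * x⁻¹ ∈ K ∧ x * t * x⁻¹ ∉ K1} = 4 * Nat.card ↥K := by
    rw [← hA4, ← Fintype.card_coe A, ← Nat.card_eq_fintype_card, ← Nat.card_prod]
    refine (Nat.card_congr (Equiv.ofBijective (fun p : ↥A × ↥K =>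
      (⟨ν ⟨p.1.1, hA1 _ p.1.2⟩ * p.2, by
        obtain ⟨h1, h2⟩ := hcls_supp p.1.1.2 (hνK ⟨p.1.1, hA1 _ p.1.2⟩ p.2.2)
        exact ⟨h1, fun h => (Finset.mem_filter.1 (hA ▸ p.1.2 : p.1.1 ∈ Finset.univ.filter (fun s : ↥(P.S : Subgroup G) => (s : G) ∉ K1))).2 (h2.1 h)⟩⟩ :
        {x : G // x * t * x⁻¹ ∈ K ∧ x * t * x⁻¹ ∉ K1})) ⟨fun p p' h => ?_, fun x => ?_⟩)).symm
    · obtain ⟨h1, h2⟩ := hν_inj _ _ _ _ p.2.2 p'.2.2 (congrArg Subtype.val h)
      exact Prod.ext (Subtype.ext (congrArg (fun s : {s : ↥(P.S : Subgroup G) // s ≠ 1} => s.1) h1)) (Subtype.ext h2)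
    · obtain ⟨s, hs, hk⟩ := hν_exists x.1 (P.mem_M_of_conj (P.S_le_M htS) ht (hKM x.2.1))
      have hsA : s.1 ∈ A := by
        rw [hA, Finset.mem_filter]
        exact ⟨Finset.mem_univ _, fun h => x.2.2 ((hcls_supp s.1.2 hs).2.2 h)⟩
      exact ⟨⟨⟨s.1, hsA⟩, ⟨_, hk⟩⟩, Subtype.ext (mul_inv_cancel_left _ _)⟩
  have hinvs : Nat.card {g : G // orderOf g = 2} = 7 * n * q := by
    rw [Nat.card_congr (Equiv.subtypeEquivRight (p := fun g => orderOf g = 2) (q := fun g => IsConj t g)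
      fun g => ⟨hone g, fun h => by obtain ⟨k, rfl⟩ := isConj_iff.1 h; rw [CfsgLib.Block.orderOf_conj_eq, ht]⟩),
      CfsgLib.Char.card_isConj]
    have h := index_mul_card (centralizer ({t} : Set G))
    rw [← hC, hCe, hG, hKcard, hq] at h
    rw [← hC]
    refine Nat.eq_of_mul_eq_mul_right (Nat.mul_pos (Nat.mul_pos (by norm_num : 0 < 8) heodd.pos) hXpos) ?_
    rw [h]; ring
  have hpairs : Nat.card {p : G × G // orderOf p.1 = 2 ∧ orderOf p.2 = 2 ∧ p.1 * p.2 ∈ K ∧ p.1 * p.2 ∉ K1} =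
      24 * q ^ 2 := by
    obtain ⟨Q, hQ⟩ : ∃ Q : Finset (↥(P.S : Subgroup G) × ↥(P.S : Subgroup G)),
        Q = Finset.univ.filter (fun p : ↥(P.S : Subgroup G) × ↥(P.S : Subgroup G) =>
          p.1 ≠ 1 ∧ p.2 ≠ 1 ∧ (p.1 : G) * p.2 ∉ K1) := ⟨_, rfl⟩
    obtain ⟨B, hB⟩ : ∃ B : Finset ↥(P.S : Subgroup G),
        B = Finset.univ.filter (fun s : ↥(P.S : Subgroup G) => s ≠ 1 ∧ (s : G) ∈ K1) := ⟨_, rfl⟩
    have hB3 : B.card = 3 := by
      have htot := Finset.card_filter_add_card_filter_not (s := (Finset.univ : Finset ↥(P.S : Subgroup G)))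
        (fun s : ↥(P.S : Subgroup G) => (s : G) ∉ K1)
      rw [Finset.card_univ, ← Nat.card_eq_fintype_card, P.hS8, ← hA, hA4] at htot
      have he : B = (Finset.univ.filter (fun s : ↥(P.S : Subgroup G) => ¬ (s : G) ∉ K1)).erase 1 := by
        rw [hB]; ext s; simp
      rw [he, Finset.card_erase_of_mem (by simp), ]
      omega
    have hQu : Q = A ×ˢ B ∪ B ×ˢ A := by
      ext ⟨a, b⟩
      simp only [hQ, hA, hB, Finset.mem_filter, Finset.mem_union, Finset.mem_product, Finset.mem_univ, true_and]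
      constructor
      · rintro ⟨ha1, hb1, hab⟩
        by_cases ha : (a : G) ∈ K1
        · exact Or.inr ⟨⟨ha1, ha⟩, fun hb => hab (mul_mem ha hb)⟩
        · by_cases hb : (b : G) ∈ K1
          · exact Or.inl ⟨ha, hb1, hb⟩
          · exact absurd (htwo _ (hSK a.2) ha _ (hSK b.2) hb) hab
      · rintro (⟨ha, hb1, hb⟩ | ⟨⟨ha1, ha⟩, hb⟩)
        · exact ⟨fun e => ha (e ▸ one_mem _), hb1, fun h => ha (by simpa using mul_mem h (inv_mem hb))⟩
        · exact ⟨ha1, fun e => hb (e ▸ one_mem _), fun h => hb (by simpa using mul_mem (inv_mem ha) h)⟩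
    have hQ24 : Q.card = 24 := by
      rw [hQu, Finset.card_union_of_disjoint (Finset.disjoint_left.2 fun p h1 h2 => by
        have h1' := (Finset.mem_product.1 h1).1
        have h2' := (Finset.mem_product.1 h2).1
        simp only [hA, hB, Finset.mem_filter] at h1' h2'
        exact h1'.2 h2'.2.2), Finset.card_product, Finset.card_product, hA4, hB3]
    have hcardQ : Nat.card (Σ p : ↥Q, {z : G // orderOf z = 2 ∧ (p.1.1 : G) * z ∈ P.W} ×
        {z : G // orderOf z = 2 ∧ (p.1.2 : G) * z ∈ P.W}) = 24 * q ^ 2 := by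
      rw [Nat.card_sigma, Finset.sum_congr rfl (g := fun _ => q * q) fun p _ => by
        have hp := p.2
        simp only [hQ, Finset.mem_filter, Finset.mem_univ, true_and] at hp
        rw [Nat.card_prod, hθ ⟨p.1.1, hp.1⟩, hθ ⟨p.1.2, hp.2.1⟩],
        Finset.sum_const, Finset.card_univ, Fintype.card_coe, hQ24, smul_eq_mul, pow_two]
    rw [← hcardQ]
    refine (Nat.card_congr (Equiv.ofBijective
      (fun a : Σ p : ↥Q, {z : G // orderOf z = 2 ∧ (p.1.1 : G) * z ∈ P.W} ×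
          {z : G // orderOf z = 2 ∧ (p.1.2 : G) * z ∈ P.W} =>
        (⟨(a.2.1.1, a.2.2.1), a.2.1.2.1, a.2.2.2.1, by
          have hp := a.1.2
          simp only [hQ, Finset.mem_filter, Finset.mem_univ, true_and] at hp
          obtain ⟨h1, h2⟩ := hcls_supp (mul_mem a.1.1.1.2 a.1.1.2.2)
            (P.cls_mul a.1.1.1.2 a.1.1.2.2 a.2.1.2.2 a.2.2.2.2)
          exact ⟨h1, fun h => hp.2.2 (h2.1 h)⟩⟩ :
          {p : G × G // orderOf p.1 = 2 ∧ orderOf p.2 = 2 ∧ p.1 * p.2 ∈ K ∧ p.1 * p.2 ∉ K1}))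
      ⟨?_, ?_⟩)).symm
    · rintro ⟨⟨⟨a, b⟩, hp⟩, ⟨u, hu⟩, ⟨v, hv⟩⟩ ⟨⟨⟨a', b'⟩, hp'⟩, ⟨u', hu'⟩, ⟨v', hv'⟩⟩ h
      simp only [Subtype.mk.injEq, Prod.mk.injEq] at h
      obtain ⟨rfl, rfl⟩ := h
      obtain rfl : a = a' := Subtype.ext (P.cls_unique a.2 a'.2 hu.2 hu'.2)
      obtain rfl : b = b' := Subtype.ext (P.cls_unique b.2 b'.2 hv.2 hv'.2)
      rfl
    · rintro ⟨⟨u, v⟩, hu, hv, hmem, hnot⟩
      obtain ⟨z, y, hzo, hzK, -, -, -, -, j, hzj⟩ := hpart (u * v) hmem hnot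
      have hinv := CfsgLib.Invol.invol_conj_mul hu hv
      have hz' : u * z * u⁻¹ = z⁻¹ := by
        rw [hzj, ← pow_two, ← pow_mul, ← pow_succ', ← conj_pow, hinv, inv_pow]
      have huM : u ∈ P.M := P.mem_M_of_conj (hKM hzK) hzo (by rw [hz']; exact inv_mem (hKM hzK))
      have hvM : v ∈ P.M := by
        have := mul_mem (inv_mem huM) (hKM hmem)
        rwa [inv_mul_cancel_left] at this
      obtain ⟨a, ha, ha1, hau⟩ := P.cls_invol huM hu
      obtain ⟨b, hb, hb1, hbv⟩ := P.cls_invol hvM hv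
      have habQ : ((⟨a, ha⟩, ⟨b, hb⟩) : ↥(P.S : Subgroup G) × ↥(P.S : Subgroup G)) ∈ Q := by
        simp only [hQ, Finset.mem_filter, Finset.mem_univ, true_and]
        exact ⟨fun e => ha1 (congrArg Subtype.val e), fun e => hb1 (congrArg Subtype.val e),
          fun h => hnot ((hcls_supp (mul_mem ha hb) (P.cls_mul ha hb hau hbv)).2.2 h)⟩
      exact ⟨⟨⟨_, habQ⟩, ⟨u, hu, hau⟩, ⟨v, hv, hbv⟩⟩, rfl⟩
  -- the norm
  have hnorm : Nat.card {p : G × G // (p.1 ∈ K ∧ p.1 ∉ K1) ∧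
      p.2 * p.1 * p.2⁻¹ ∈ K ∧ p.2 * p.1 * p.2⁻¹ ∉ K1} =
      Nat.card ↥K * (12 * Nat.card ↥P.W + 4 * e * Nat.card ↥P.W) := by
    obtain ⟨U, hU⟩ : ∃ U : Finset G, U = Finset.univ.filter (fun k => k ∈ K ∧ k ∉ K1) := ⟨_, rfl⟩
    have hUmem : ∀ k, k ∈ U ↔ k ∈ K ∧ k ∉ K1 := fun k => by simp [hU]
    have hnormal : ∀ x ∈ K, ∀ h ∈ K1, x * h * x⁻¹ ∈ K1 := by
      intro x hx h hh
      by_cases hx1 : x ∈ K1
      · exact mul_mem (mul_mem hx1 hh) (inv_mem hx1)
      · refine htwo _ (mul_mem hx (hK1K hh)) (fun e => hx1 ?_) _ (inv_mem hx) fun e => hx1 ?_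
        · have := mul_mem e (inv_mem hh); rwa [mul_inv_cancel_right] at this
        · exact inv_mem_iff.1 e
    have hnumL : ∀ k ∈ U, k ∈ P.L →
        Nat.card {x : G // x * k * x⁻¹ ∈ K ∧ x * k * x⁻¹ ∉ K1} = 4 * Nat.card ↥K := by
      intro k hk hkL
      obtain ⟨s, hs, hsk⟩ := P.mem_L hkL
      have hs1K : s ∉ K1 := fun h => ((hUmem k).1 hk).2 ((hcls_supp hs hsk).2.2 h)
      have hs1 : s ≠ 1 := fun e => hs1K (e ▸ one_mem _)
      have hso := P.order_two hs hs1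
      have hboth : ∀ x ∈ P.M, (x * k * x⁻¹ ∈ K ∧ x * k * x⁻¹ ∉ K1) ↔
          (x * s * x⁻¹ ∈ K ∧ x * s * x⁻¹ ∉ K1) := by
        intro x hx
        obtain ⟨r, hr, hrW, -⟩ := P.cls_exists hx hs
        obtain ⟨h1, h2⟩ := hcls_supp hr hrW
        obtain ⟨h3, h4⟩ := hcls_supp hr (P.cls_conj hx hs hsk hrW)
        exact ⟨fun h => ⟨h1, fun e => h.2 (h4.2 (h2.1 e))⟩, fun h => ⟨h3, fun e => h.2 (h2.2 (h4.1 e))⟩⟩
      rw [← hcount]
      refine (Nat.card_congr (Equiv.subtypeEquivRight (q := fun x => x * s * x⁻¹ ∈ K ∧ x * s * x⁻¹ ∉ K1)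
        fun x => ?_)).trans (Nat.card_congr ((Equiv.mulRight (ν ⟨⟨s, hs⟩, fun e => hs1 (congrArg Subtype.val e)⟩)).subtypeEquiv fun x => ?_))
      · refine ⟨fun h => (hboth x ?_).1 h, fun h => (hboth x ?_).2 h⟩
        · obtain ⟨z, y, hzo, hzK, -, -, -, -, j, hzj⟩ := hpart k ((hUmem k).1 hk).1 ((hUmem k).1 hk).2
          refine P.mem_M_of_conj (hKM hzK) hzo ?_
          rw [hzj, ← pow_two, ← pow_mul, ← pow_succ', ← conj_pow]
          exact pow_mem (hKM h.1) _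
        · exact P.mem_M_of_conj (P.S_le_M hs) hso (hKM h.1)
      · have e : ∀ v : G, x * (v * t * v⁻¹) * x⁻¹ = x * v * t * (x * v)⁻¹ := fun v => by group
        have h := hνt ⟨⟨s, hs⟩, fun e => hs1 (congrArg Subtype.val e)⟩
        simp only [Equiv.coe_mulRight]
        rw [← e, h]
    have hnumO : ∀ k ∈ U, k ∉ P.L →
        Nat.card {x : G // x * k * x⁻¹ ∈ K ∧ x * k * x⁻¹ ∉ K1} = Nat.card ↥K := by
      intro k hk hkL
      obtain ⟨hkK, hkK1⟩ := (hUmem k).1 hk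
      refine Nat.card_congr (Equiv.subtypeEquivRight fun x => ⟨fun hx => ?_, fun hx => ?_⟩)
      swap
      · refine ⟨mul_mem (mul_mem hx hkK) (inv_mem hx), fun e => hkK1 ?_⟩
        have := hnormal x⁻¹ (inv_mem hx) _ e
        rwa [show x⁻¹ * (x * k * x⁻¹) * x⁻¹⁻¹ = k by group] at this
      obtain ⟨z, y, hzo, hzK, -, -, -, -, j, hzj⟩ := hpart k hkK hkK1
      have hxM : x ∈ P.M := by
        refine P.mem_M_of_conj (hKM hzK) hzo ?_
        rw [hzj, ← pow_two, ← pow_mul, ← pow_succ', ← conj_pow]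
        exact pow_mem (hKM hx.1) _
      have hkM := hKM hkK
      by_contra hxK
      -- the class `r` of `x⁻¹ t x` is a second class fixed by `k`
      obtain ⟨r, hr, hrW, -⟩ := P.cls_exists (inv_mem hxM) htS
      have hrt : r ≠ t := by
        intro e
        rw [e] at hrW
        exact hxK (inv_mem_iff.1 ((hKfix _).2 ⟨inv_mem hxM, hrW⟩))
      have hkr : k ∈ P.fixer hr := by
        obtain ⟨r2, hr2, h, -⟩ := P.cls_exists hkM hr
        have ha := P.cls_conj (inv_mem hxM) htS ((hKfix _).1 hx.1).2 hrW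
        have hb := P.cls_conj hkM hr hrW h
        rw [show x⁻¹ * (x * k * x⁻¹ * t * (x * k * x⁻¹)⁻¹) * x⁻¹⁻¹ =
          k * (x⁻¹ * t * x⁻¹⁻¹) * k⁻¹ by group] at ha
        obtain rfl := P.cls_unique hr hr2 ha hb
        exact ⟨hkM, h⟩
      -- the classes fixed by `k` form a subgroup
      let F : Subgroup G :=
        { carrier := {s | s ∈ (P.S : Subgroup G) ∧ s * (k * s * k⁻¹) ∈ P.W}
          one_mem' := ⟨one_mem _, by simp⟩
          mul_mem' := fun {a b} ha hb => ⟨mul_mem ha.1 hb.1, by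
            have := P.cls_mul ha.1 hb.1 ha.2 hb.2
            rwa [show k * a * k⁻¹ * (k * b * k⁻¹) = k * (a * b) * k⁻¹ by group] at this⟩
          inv_mem' := fun {a} ha => by
            simp only [Set.mem_setOf_eq, P.inv_eq ha.1]; exact ha }
      have hFS : F ≤ (P.S : Subgroup G) := fun s hs => hs.1
      have hr1 : r ≠ 1 := fun e => by
        rw [e, one_mul] at hrW
        have := P.conj_W hxM hrW
        rw [show x * (x⁻¹ * t * x⁻¹⁻¹) * x⁻¹ = t by group] at this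
        exact ht1 (P.eq_one_of_mem_W htS this)
      have h4 : 4 ≤ Nat.card ↥F := by
        have hU4 := CfsgLib.Invol.isKleinFour_closure_pair ht (P.order_two hr hr1) (Ne.symm hrt) (P.comm htS hr)
        rw [← hU4.card_four]
        refine card_le_of_le ((closure_le _).2 ?_)
        rintro v (rfl | rfl)
        · exact ⟨htS, ((hKfix k).1 hkK).2⟩
        · exact ⟨hr, hkr.2⟩
      have hz_fix : ∀ {s : G} (hs : s ∈ (P.S : Subgroup G)), z ∈ P.fixer hs := by
        intro s hs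
        obtain ⟨rz, hrz, -, hz⟩ := P.cls_invol (hKM hzK) hzo
        exact P.mem_fixer_of_L hs (P.mem_L_of_mul hrz hz)
      have hall : ∀ s : G, (hs : s ∈ (P.S : Subgroup G)) → k ∈ P.fixer hs := by
        intro s hs
        obtain ⟨s', hs', hsW, -⟩ := P.cls_exists hkM hs
        -- `k` moves `s` only inside its coset of the fixed classes
        have hf : s * s' ∈ F := by
          by_cases hsF : s ∈ F
          · rw [P.cls_unique hs' hs hsW hsF.2, P.sq hs]; exact one_mem _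
          · have hidx : (F.subgroupOf (P.S : Subgroup G)).index = 2 := by
              have h := (F.subgroupOf (P.S : Subgroup G)).card_mul_index
              rw [Nat.card_congr (subgroupOfEquivOfLe hFS).toEquiv, P.hS8] at h
              have hne : (F.subgroupOf (P.S : Subgroup G)).index ≠ 1 := fun e =>
                hsF (show (⟨s, hs⟩ : ↥(P.S : Subgroup G)) ∈ F.subgroupOf (P.S : Subgroup G) by
                  rw [index_eq_one.1 e]; exact mem_top _)
              have hpos : (F.subgroupOf (P.S : Subgroup G)).index ≠ 0 := index_ne_zero_of_finite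
              have hle : (F.subgroupOf (P.S : Subgroup G)).index ≤ 2 := by nlinarith
              omega
            have hs'F : s' ∉ F := fun h' => by
              have hb := h'.2
              have hc := P.cls_mul hs' hs' hb hsW
              rw [P.sq hs', one_mul, show k * s' * k⁻¹ * (k * s * k⁻¹) = k * (s' * s) * k⁻¹ by group] at hc
              have hd := P.conj_W (inv_mem hkM) hc
              rw [show k⁻¹ * (k * (s' * s) * k⁻¹) * k⁻¹⁻¹ = s' * s by group] at hd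
              exact hsF (P.eq_of_mul_mem_W hs' hs hd ▸ h')
            have := (mul_mem_iff_of_index_two hidx (a := (⟨s, hs⟩ : ↥(P.S : Subgroup G))) (b := ⟨s', hs'⟩)).2
              (by simp only [mem_subgroupOf]; exact iff_of_false hsF hs'F)
            exact this
        -- so `k * k` fixes `s`
        have hk2 : k * k ∈ P.fixer hs := by
          refine ⟨mul_mem hkM hkM, ?_⟩
          have hfW : s * s' * (k * (s * s') * k⁻¹) ∈ P.W := hf.2
          have h1 := P.cls_mul hf.1 hs' hfW hsW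
          rw [show k * (s * s') * k⁻¹ * (k * s * k⁻¹) = k * (s * s' * s) * k⁻¹ by group] at h1
          rw [mul_assoc s s' s', P.sq hs', mul_one, P.comm hs hs', mul_assoc s' s s, P.sq hs, mul_one] at h1
          -- `h1 : s * (k * s' * k⁻¹) ∈ W`
          have h3 := P.cls_conj hkM hs' hsW h1
          simpa [mul_assoc] using h3
        have := mul_mem (hz_fix hs) (inv_mem (pow_mem hk2 j))
        rwa [hzj, mul_inv_cancel_right] at this
      -- so `k` lies in `L`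
      refine hkL ?_
      obtain ⟨w, hw, c, hc, rfl⟩ := hsplitK k hkK
      have hcfix : ∀ s : G, (hs : s ∈ (P.S : Subgroup G)) → c ∈ P.fixer hs := fun s hs => by
        have := mul_mem (inv_mem (P.mem_fixer_of_L hs (le_sup_left (b := (P.S : Subgroup G)) hw))) (hall s hs)
        rwa [inv_mul_cancel_left] at this
      have hcXS := (P.core_sup_normal htS ht1).2 c (hC ▸ hc) fun s hs => by
        rw [← hX, ← hCX]
        have h2 := P.conj_W (P.S_le_M hs) (hcfix s hs).2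
        rw [show s * (s * (c * s * c⁻¹)) * s⁻¹ = s * s * (c * s * c⁻¹ * s⁻¹) by group, P.sq hs, one_mul] at h2
        exact mem_inf.2 ⟨mul_mem (mul_mem (mul_mem hc (hSC hs)) (inv_mem hc)) (inv_mem (hSC hs)), h2⟩
      exact mul_mem (le_sup_left (b := (P.S : Subgroup G)) hw)
        (sup_le_sup_right (P.theta_le t htS ht1) _ hcXS)
    -- the sizes
    have hUL : (U.filter (· ∈ P.L)).card = 4 * Nat.card ↥P.W := by
      rw [← hA4, ← Fintype.card_coe (U.filter (· ∈ P.L)), Nat.card_eq_fintype_card, ← Fintype.card_coe A,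
        ← Fintype.card_prod]
      refine (Fintype.card_congr (Equiv.ofBijective (fun p : ↥A × ↥P.W =>
        (⟨(p.1.1 : G) * p.2, by
          have hsW : (p.1.1 : G) * ((p.1.1 : G) * p.2) ∈ P.W := by
            rw [← mul_assoc, P.sq p.1.1.2, one_mul]; exact p.2.2
          obtain ⟨h1, h2⟩ := hcls_supp p.1.1.2 hsW
          have hp := p.1.2
          simp only [hA, Finset.mem_filter, Finset.mem_univ, true_and] at hp
          exact Finset.mem_filter.2 ⟨(hUmem _).2 ⟨h1, fun e => hp (h2.1 e)⟩, P.mem_L_of_mul p.1.1.2 hsW⟩⟩ :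
          ↥(U.filter (· ∈ P.L)))) ⟨fun p p' h => ?_, fun k => ?_⟩)).symm
      · have h' : (p.1.1 : G) * p.2 = (p'.1.1 : G) * p'.2 := congrArg Subtype.val h
        have hss : p.1.1 = p'.1.1 := Subtype.ext (P.cls_unique p.1.1.2 p'.1.1.2
          (z := (p.1.1 : G) * p.2) (by rw [← mul_assoc, P.sq p.1.1.2, one_mul]; exact p.2.2)
          (by rw [h', ← mul_assoc, P.sq p'.1.1.2, one_mul]; exact p'.2.2))
        rw [hss] at h'
        exact Prod.ext (Subtype.ext hss) (Subtype.ext (mul_left_cancel h'))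
      · obtain ⟨hkU, hkL⟩ := Finset.mem_filter.1 k.2
        obtain ⟨s, hs, hsk⟩ := P.mem_L hkL
        have hsA : (⟨s, hs⟩ : ↥(P.S : Subgroup G)) ∈ A := by
          rw [hA, Finset.mem_filter]
          exact ⟨Finset.mem_univ _, fun h => ((hUmem _).1 hkU).2 ((hcls_supp hs hsk).2.2 h)⟩
        exact ⟨⟨⟨_, hsA⟩, ⟨_, hsk⟩⟩, Subtype.ext (show s * (s * (k : G)) = k by rw [← mul_assoc, P.sq hs, one_mul])⟩
    have hUcard : U.card = 4 * e * Nat.card ↥P.W := by
      have h := Finset.card_filter_add_card_filter_not (s := Finset.univ.filter (fun k => k ∈ K)) (fun k => k ∈ K1)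
      rw [Finset.filter_filter, Finset.filter_filter,
        Finset.filter_congr (q := fun k => k ∈ K1) (fun k _ => ⟨fun h => h.2, fun h => ⟨hK1K h, h⟩⟩), ← hU,
        ← Fintype.card_subtype, ← Fintype.card_subtype, ← Nat.card_eq_fintype_card, ← Nat.card_eq_fintype_card] at h
      have h2 : 2 * Nat.card ↥K1 = 8 * e * Nat.card ↥P.W := hhalf ▸ hKcard
      linarith [hhalf]
    rw [Nat.card_congr (show {p : G × G // (p.1 ∈ K ∧ p.1 ∉ K1) ∧
        p.2 * p.1 * p.2⁻¹ ∈ K ∧ p.2 * p.1 * p.2⁻¹ ∉ K1} ≃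
        Σ k : ↥U, {x : G // x * (k : G) * x⁻¹ ∈ K ∧ x * (k : G) * x⁻¹ ∉ K1} from
      { toFun := fun p => ⟨⟨p.1.1, (hUmem _).2 p.2.1⟩, ⟨p.1.2, p.2.2⟩⟩
        invFun := fun a => ⟨(a.1.1, a.2.1), (hUmem _).1 a.1.2, a.2.2⟩
        left_inv := fun p => rfl
        right_inv := fun a => rfl }), Nat.card_sigma,
      Finset.sum_congr rfl (g := fun k : ↥U => if (k : G) ∈ P.L then 4 * Nat.card ↥K else Nat.card ↥K)
        fun k _ => by
          split_ifs with h
          · exact hnumL k k.2 h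
          · exact hnumO k k.2 h,
      Finset.sum_coe_sort U (fun k => if k ∈ P.L then 4 * Nat.card ↥K else Nat.card ↥K),
      Finset.sum_ite, Finset.sum_const, Finset.sum_const, smul_eq_mul, smul_eq_mul]
    have h := Finset.card_filter_add_card_filter_not (s := U) (fun k => k ∈ P.L)
    rw [hUcard, hUL] at h
    rw [hUL]
    nlinarith
  refine ⟨{ t := t, S := (P.S : Subgroup G), W := P.W, L := P.L, K := K, K1 := K1, n := n, e := e, q := q,
            ht := ht, cardS := P.hS8, sqS := P.hS.2, W_ne := P.ne, hn := hn ▸ P.twenty_five_le, he := heodd,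
            le_K := hK1K, cardK1 := hhalf, cardK := hKcard, cardG := hG, isConj := hone,
            clean := fun s hs => clean_of_solvable (P.solvable s hs),
            part := fun k hk hk1 => ?_, cardC := by rw [← hC, ← hX]; exact hCe, q_pos := hqpos, invs := hinvs,
            pairs := hpairs, count_t := hcount, count_norm := hnorm, le_L := le_sup_left, cardL := ?_,
            conj_L := ?_ }⟩
  · obtain ⟨z, y, hzo, hzK, -, hzy, hcomm, hy, -⟩ := hpart k hk hk1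
    exact ⟨z, hzo, ⟨y, hzy, hcomm, ⟨1, by rw [hzo, pow_one]⟩, hy⟩,
      (P.theta_le_of_mem (hKM hzK) hzo).trans hWK1⟩
  · have h := card_sup_mul P.S_le_NW
    have hbot : (P.S : Subgroup G) ⊓ P.W = ⊥ := (Subgroup.eq_bot_iff_forall _).2 fun s hs =>
      P.eq_one_of_mem_W (mem_inf.1 hs).1 (mem_inf.1 hs).2
    rw [hbot, card_bot, mul_one, P.hS8, sup_comm] at h
    exact h
  · intro g hg hgW
    obtain ⟨s, hs, hsg⟩ := P.mem_L hg
    have hs1 : s ≠ 1 := fun e => hgW (by rw [e, one_mul] at hsg; exact hsg)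
    have hgg : g * g ∈ P.W := by
      have := P.cls_mul hs hs hsg hsg
      rwa [P.sq hs, one_mul] at this
    obtain ⟨z, y, j, hzj, hzo, hzy, hcomm, -⟩ := exists_part hgW hgg P.exp_four
    have hsz : s * z ∈ P.W := by
      rw [hzj, ← mul_assoc]; exact mul_mem hsg (pow_mem hgg _)
    obtain ⟨a, ha, rfl⟩ := exists_conj_of_coset P.odd (P.order_two hs hs1) hzo hsz
    have hgy : Commute (a * s * a⁻¹) g := by rw [← hzy]; exact (Commute.refl _).mul_right hcomm
    obtain ⟨g', hg'⟩ : ∃ g', g' = a⁻¹ * g * a := ⟨_, rfl⟩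
    have hg's : Commute s g' := by
      have h := congrArg (fun v => a⁻¹ * v * a) hgy.eq
      rw [hg']
      show s * (a⁻¹ * g * a) = a⁻¹ * g * a * s
      calc s * (a⁻¹ * g * a) = a⁻¹ * (a * s * a⁻¹ * g) * a := by group
        _ = a⁻¹ * (g * (a * s * a⁻¹)) * a := h
        _ = _ := by group
    have hsg' : s * g' ∈ Cfsg.centralizerPPrimeCore 2 s := by
      rw [← P.inf_centralizer hs hs1]
      refine mem_inf.2 ⟨mem_centralizer_singleton_iff.2 ((Commute.refl s).mul_left hg's.symm).eq, ?_⟩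
      have h := P.cls_conj (inv_mem (P.W_le_M ha)) hs hsg (r' := s)
        (P.mem_fixer_of_L hs (le_sup_left (b := (P.S : Subgroup G)) (inv_mem ha))).2
      rwa [inv_inv, ← hg'] at h
    obtain ⟨v, hv⟩ : ∃ v, v = ν ⟨⟨s, hs⟩, fun e => hs1 (congrArg Subtype.val e)⟩ := ⟨_, rfl⟩
    have hvt : v * t * v⁻¹ = s := hv ▸ hνt _
    rw [← hvt, CfsgLib.TwoGenCore.theta_conj] at hsg'
    obtain ⟨x, hx, hxe⟩ := hsg'
    refine ⟨x, hx, isConj_iff.2 ⟨a * v, ?_⟩⟩
    have hxe' : v * x * v⁻¹ = v * t * v⁻¹ * g' := hxe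
    calc a * v * (t * x) * (a * v)⁻¹ = a * ((v * t * v⁻¹) * (v * x * v⁻¹)) * a⁻¹ := by group
      _ = a * (s * (s * g')) * a⁻¹ := by rw [hxe', hvt]
      _ = g := by rw [show s * (s * g') = g' by rw [← mul_assoc, P.sq hs, one_mul], hg']; group

end Setup

end CfsgLib.ElemEight
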