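import Cfsg.Agent.Lib.OddConseq.ElemEight.Count
import Cfsg.Agent.Lib.Invol.SmallSimple
import Cfsg.Agent.Lib.PGroup.HallWielandtControl
import Mathlib.GroupTheory.FixedPointFree
import Mathlib.GroupTheory.Transfer

/-!
# A strongly embedded normalizer of order 168 in a simple group does not exist
-/

set_option autoImplicit false

namespace CfsgLib.ElemEight

open Subgroup MulAction

universe u

variable {G : Type u} [Group G] [Finite G] (Z : Conf G)

local notation "o" => (((1 : G) : G) : G ⧸ Z.H)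

include Z

theorem sq_of_pow_four {x : G} (hx : x ^ 4 = 1) : x ^ 2 = 1 := by
  by_contra h2
  have ho : orderOf (x ^ 2) = 2 := orderOf_eq_prime (hp := ⟨Nat.prime_two⟩) (by rw [← pow_mul]; exact hx) h2
  obtain ⟨s, hsH, hso⟩ := CfsgLib.Invol.exists_invol_mem Z.hH.2.1
  obtain ⟨g, hg⟩ := isConj_iff.1 (CfsgLib.Invol.exists_conj_fixing Z.hH ho hso)
  obtain ⟨y, hy⟩ : ∃ y, y = g * x * g⁻¹ := ⟨_, rfl⟩
  have hy2 : y ^ 2 = s := by rw [hy, conj_pow, hg]
  have hyH : y ∈ Z.H := Z.centH s (invol_mem_S Z hsH hso) hso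
    (mem_centralizer_singleton_iff.2 (by rw [← hy2]; exact (Commute.self_pow y 2).eq))
  haveI : (Z.S.subgroupOf Z.H).Normal := ⟨fun s hs h => Z.norm h h.2 s hs⟩
  have hidx : (Z.S.subgroupOf Z.H).index = 21 := by
    have h := (Z.S.subgroupOf Z.H).card_mul_index
    rw [Nat.card_congr (subgroupOfEquivOfLe Z.le).toEquiv, Z.cardS, Z.cardH] at h
    omega
  have h := Subgroup.pow_index_mem (Z.S.subgroupOf Z.H) (⟨y, hyH⟩ : Z.H)
  rw [hidx, mem_subgroupOf, SubgroupClass.coe_pow] at h
  have hy4 : y ^ 4 = 1 := by rw [hy, conj_pow, hx]; simp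
  have h' : y ^ 21 = y := by
    rw [show (21 : ℕ) = 4 * 5 + 1 from rfl, pow_succ, pow_mul, hy4, one_pow, one_mul]
  rw [h'] at h
  rw [Z.sq y h] at hy2
  rw [← hy2, orderOf_one] at hso
  norm_num at hso

/-- Involutions commute only with the identity among elements of order prime to 24. -/
theorem eq_one_of_coprime_commute {t r : G} (ht : orderOf t = 2) (h : Commute r t)
    (hr : (orderOf r).Coprime 24) : r = 1 :=
  orderOf_eq_one_iff.1 (Nat.eq_one_of_dvd_coprimes hr dvd_rfl
    ((Subgroup.orderOf_dvd_natCard (centralizer ({t} : Set G))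
      (mem_centralizer_singleton_iff.2 h.eq)).trans (card_centralizer_invol_dvd Z ht)))

/-- A nontrivial subgroup of order prime to 24 has normalizer of order not divisible by four. -/
theorem not_four_dvd_normalizer {R : Subgroup G} (hR : R ≠ ⊥) (hcop : (Nat.card R).Coprime 24) :
    ¬ 4 ∣ Nat.card ↥(normalizer (R : Set G)) := by
  intro h4
  haveI : Fact (Nat.Prime 2) := ⟨Nat.prime_two⟩
  obtain ⟨V, hV⟩ := Sylow.exists_subgroup_card_pow_prime 2 (G := ↥(normalizer (R : Set G))) (n := 2)
    (by simpa using h4)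
  have hco : ∀ r ∈ R, (orderOf r).Coprime 24 := fun r hr =>
    hcop.coprime_dvd_left (Subgroup.orderOf_dvd_natCard R hr)
  have hinv : ∀ t : G, orderOf t = 2 → t ∈ normalizer (R : Set G) → ∀ r ∈ R, t * r * t⁻¹ = r⁻¹ := by
    intro t ht htN r hr
    let f : R → R := fun x => ⟨t * x * t⁻¹, (mem_normalizer_iff.1 htN _).1 x.2⟩
    let φ : R →* R :=
      { toFun := f
        map_one' := Subtype.ext (by simp [f])
        map_mul' := fun a b => Subtype.ext (by simp [f, mul_assoc]) }
    have hfp : MonoidHom.FixedPointFree φ := fun x hx => by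
      have hx' : t * (x : G) * t⁻¹ = x := congrArg Subtype.val hx
      exact Subtype.ext (eq_one_of_coprime_commute Z ht (mul_inv_eq_iff_eq_mul.1 hx').symm (hco _ x.2))
    have h2 : Function.Involutive φ := fun x => Subtype.ext (by
      show t * (t * (x : G) * t⁻¹) * t⁻¹ = x
      rw [CfsgLib.Invol.invol_inv ht, ← mul_assoc, ← mul_assoc, CfsgLib.Invol.invol_mul_self ht,
        one_mul, mul_assoc, CfsgLib.Invol.invol_mul_self ht, mul_one])
    exact congrArg Subtype.val (congrFun (hfp.coe_eq_inv_of_involutive h2) ⟨r, hr⟩)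
  have hsq : ∀ v : V, v ^ 2 = 1 := fun v => by
    have h : v ^ 4 = 1 := by
      have := pow_card_eq_one' (G := V) (x := v)
      rwa [hV] at this
    exact Subtype.ext (Subtype.ext (sq_of_pow_four Z
      (congrArg (fun w : V => ((w : ↥(normalizer (R : Set G))) : G)) h)))
  have hord : ∀ v : V, v ≠ 1 → orderOf ((v : ↥(normalizer (R : Set G))) : G) = 2 := fun v hv => by
    rw [Subgroup.orderOf_coe, Subgroup.orderOf_coe]
    exact orderOf_eq_prime (hsq v) hv
  haveI : Nontrivial V := Finite.one_lt_card_iff_nontrivial.1 (by rw [hV]; norm_num)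
  obtain ⟨a, ha⟩ := exists_ne (1 : V)
  obtain ⟨b, hb, hba⟩ : ∃ b : V, b ≠ 1 ∧ b ≠ a := by
    by_contra hno
    push Not at hno
    have : Nat.card V ≤ 2 := by
      have hle := Nat.card_le_card_of_surjective (fun i : Fin 2 => if i = 0 then (1 : V) else a)
        (fun v => by
          by_cases hv : v = 1
          · exact ⟨0, by simp [hv]⟩
          · exact ⟨1, by simp [hno v hv]⟩)
      simpa using hle
    rw [hV] at this; norm_num at this
  obtain ⟨r, hr, hr1⟩ := (bot_or_exists_ne_one R).resolve_left hR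
  have hab : a * b ≠ 1 := fun e => by
    have ha' : a * a = 1 := by rw [← pow_two]; exact hsq a
    exact hba (mul_left_cancel (e.trans ha'.symm))
  refine hr1 (eq_one_of_coprime_commute Z (hord _ hab) ?_ (hco r hr))
  have hA := hinv _ (hord a ha) (a : ↥(normalizer (R : Set G))).2 _ (inv_mem hr)
  have hB := hinv _ (hord b hb) (b : ↥(normalizer (R : Set G))).2 r hr
  refine (mul_inv_eq_iff_eq_mul.1 ?_).symm
  simp only [Subgroup.coe_mul]
  calc _ = ((a : ↥(normalizer (R : Set G))) : G) *
        (((b : ↥(normalizer (R : Set G))) : G) * r * ((b : ↥(normalizer (R : Set G))) : G)⁻¹) *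
        ((a : ↥(normalizer (R : Set G))) : G)⁻¹ := by group
    _ = r := by rw [hB, hA, inv_inv]

theorem false_of_three [IsSimpleGroup G] (hnc : ¬ IsMulCommutative G) (hcard : Nat.card G = 6888) :
    False := by
  haveI : Fact (Nat.Prime 41) := ⟨by norm_num⟩
  obtain ⟨Q⟩ := (inferInstance : Nonempty (Sylow 41 G))
  have hQ : Nat.card (Q : Subgroup G) = 41 := by
    rw [Q.card_eq_multiplicity, hcard,
      show (6888 : ℕ).factorization 41 = 1 by
        rw [show (6888 : ℕ) = 41 ^ 1 * 168 from rfl, Nat.factorization_mul (by norm_num) (by norm_num),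
          Finsupp.add_apply, Nat.Prime.factorization_pow (by norm_num), Finsupp.single_eq_same,
          Nat.factorization_eq_zero_of_not_dvd (by norm_num)]]
    norm_num
  have hmod : Nat.card (Sylow 41 G) % 41 = 1 := card_sylow_modEq_one 41 G
  have hne := CfsgLib.Invol.one_lt_card_sylow hnc (p := 41) (by rw [hcard]; norm_num)
  have hidx : (Q : Subgroup G).index = 168 := by
    have := (Q : Subgroup G).card_mul_index
    rw [hQ, hcard] at this; omega
  have hdvd : Nat.card (Sylow 41 G) ∣ 168 := hidx ▸ Q.card_dvd_index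
  have key : ∀ k : Fin 169, k.val ∣ 168 → k.val % 41 = 1 → 1 < k.val → k.val = 42 := by decide +kernel
  have h42 := key ⟨_, Nat.lt_succ_of_le (Nat.le_of_dvd (by norm_num) hdvd)⟩ hdvd hmod hne
  have hN : Nat.card ↥(normalizer ((Q : Subgroup G) : Set G)) = 164 := by
    have h1 := (normalizer ((Q : Subgroup G) : Set G)).card_mul_index
    have h2 : (normalizer ((Q : Subgroup G) : Set G)).index = 42 := by
      rw [← h42]; exact Q.card_eq_index_normalizer.symm
    rw [h2, hcard] at h1; omega
  exact not_four_dvd_normalizer Z (R := (Q : Subgroup G)) (fun e => by rw [e, card_bot] at hQ; norm_num at hQ)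
    (by rw [hQ]; norm_num) (by rw [hN]; norm_num)

theorem false_of_seven [IsSimpleGroup G] (hnc : ¬ IsMulCommutative G) {y : G}
    (hC : Nat.card ↥(centralizer ({y} : Set G)) = 49)
    (hN : Nat.card ↥(normalizer (zpowers y : Set G)) = 294) (hcard : Nat.card G = 17640) : False := by
  haveI : Fact (Nat.Prime 7) := ⟨by norm_num⟩
  obtain ⟨R, hR⟩ : ∃ R : Sylow 7 G, (R : Subgroup G) = centralizer ({y} : Set G) := by
    refine ⟨Sylow.ofCard (centralizer ({y} : Set G)) ?_, rfl⟩
    rw [hC, hcard,
      show (17640 : ℕ).factorization 7 = 2 by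
        rw [show (17640 : ℕ) = 7 ^ 2 * 360 from rfl, Nat.factorization_mul (by norm_num) (by norm_num),
          Finsupp.add_apply, Nat.Prime.factorization_pow (by norm_num), Finsupp.single_eq_same,
          Nat.factorization_eq_zero_of_not_dvd (by norm_num)]]
    norm_num
  have hle : normalizer (zpowers y : Set G) ≤ normalizer (centralizer ({y} : Set G) : Set G) := by
    intro g hg
    rw [zpowers_eq_closure] at hg
    have hcl : centralizer ({y} : Set G) = centralizer ((closure {y} : Subgroup G) : Set G) :=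
      (centralizer_closure _).symm
    rw [hcl, mem_normalizer_iff]
    intro x
    constructor
    · intro hx
      rw [mem_centralizer_iff] at hx ⊢
      intro z hz
      have hz' := (mem_normalizer_iff.1 (inv_mem hg) z).1 hz
      rw [inv_inv] at hz'
      have h := hx _ hz'
      calc z * (g * x * g⁻¹) = g * ((g⁻¹ * z * g) * x) * g⁻¹ := by group
        _ = g * (x * (g⁻¹ * z * g)) * g⁻¹ := by rw [h]
        _ = g * x * g⁻¹ * z := by group
    · intro hx
      rw [mem_centralizer_iff] at hx ⊢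
      intro z hz
      have h := hx _ ((mem_normalizer_iff.1 hg z).1 hz)
      calc z * x = g⁻¹ * ((g * z * g⁻¹) * (g * x * g⁻¹)) * g := by group
        _ = g⁻¹ * ((g * x * g⁻¹) * (g * z * g⁻¹)) * g := by rw [h]
        _ = x * z := by group
  have hidx : Nat.card (Sylow 7 G) * Nat.card ↥(normalizer (centralizer ({y} : Set G) : Set G)) = 17640 := by
    rw [← hcard, R.card_eq_index_normalizer, ← hR, mul_comm]
    exact card_mul_index _
  obtain ⟨k, hk⟩ := card_dvd_of_le hle
  rw [hN] at hk
  rw [hk] at hidx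
  have hdvd : Nat.card (Sylow 7 G) ∣ 60 := ⟨k, by
    have : 294 * (Nat.card (Sylow 7 G) * k) = 294 * 60 := by rw [← mul_assoc, mul_comm 294, mul_assoc, hidx]
    omega⟩
  have hmod : Nat.card (Sylow 7 G) % 7 = 1 := card_sylow_modEq_one 7 G
  have hne := CfsgLib.Invol.one_lt_card_sylow hnc (p := 7) (by rw [hcard]; norm_num)
  have key : ∀ k : Fin 61, k.val ∣ 60 → k.val % 7 = 1 → 1 < k.val → k.val = 15 := by decide +kernel
  have h15 := key ⟨_, Nat.lt_succ_of_le (Nat.le_of_dvd (by norm_num) hdvd)⟩ hdvd hmod hne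
  simp only at h15
  rw [h15] at hidx
  exact not_four_dvd_normalizer Z (R := centralizer ({y} : Set G))
    (fun e => by rw [e, card_bot] at hC; norm_num at hC) (by rw [hC]; norm_num) (by rw [hk]; omega)

omit Z in
theorem false_of_twentyOne [IsSimpleGroup G] (hnc : ¬ IsMulCommutative G)
    (hcard : Nat.card G = 55272) : False := by
  haveI : Fact (Nat.Prime 47) := ⟨by norm_num⟩
  obtain ⟨Q⟩ := (inferInstance : Nonempty (Sylow 47 G))
  have hQ : Nat.card (Q : Subgroup G) = 47 := by
    rw [Q.card_eq_multiplicity, hcard,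
      show (55272 : ℕ).factorization 47 = 1 by
        rw [show (55272 : ℕ) = 47 ^ 1 * 1176 from rfl, Nat.factorization_mul (by norm_num) (by norm_num),
          Finsupp.add_apply, Nat.Prime.factorization_pow (by norm_num), Finsupp.single_eq_same,
          Nat.factorization_eq_zero_of_not_dvd (by norm_num)]]
    norm_num
  have hmod : Nat.card (Sylow 47 G) % 47 = 1 := card_sylow_modEq_one 47 G
  have hne := CfsgLib.Invol.one_lt_card_sylow hnc (p := 47) (by rw [hcard]; norm_num)
  have hidx : (Q : Subgroup G).index = 1176 := by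
    have := (Q : Subgroup G).card_mul_index
    rw [hQ, hcard] at this; omega
  have hdvd : Nat.card (Sylow 47 G) ∣ 1176 := hidx ▸ Q.card_dvd_index
  have key : ∀ k : Fin 1177, k.val ∣ 1176 → k.val % 47 = 1 → 1 < k.val → k.val = 1176 := by decide +kernel
  have hn := key ⟨_, Nat.lt_succ_of_le (Nat.le_of_dvd (by norm_num) hdvd)⟩ hdvd hmod hne
  have hNQ : normalizer ((Q : Subgroup G) : Set G) = (Q : Subgroup G) := by
    refine (eq_of_le_of_card_ge le_normalizer (le_of_eq ?_)).symm
    have h1 := (normalizer ((Q : Subgroup G) : Set G)).card_mul_index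
    have h2 : (normalizer ((Q : Subgroup G) : Set G)).index = 1176 := by
      rw [← hn]; exact Q.card_eq_index_normalizer.symm
    rw [h2, hcard] at h1; omega
  haveI : IsCyclic (Q : Subgroup G) := isCyclic_of_prime_card hQ
  have hc : normalizer ((Q : Subgroup G) : Set G) ≤ centralizer ((Q : Subgroup G) : Set G) := by
    rw [hNQ]
    exact fun a ha => mem_centralizer_iff.2 fun b hb =>
      congrArg Subtype.val ((IsCyclic.commGroup (α := ↥(Q : Subgroup G))).mul_comm ⟨b, hb⟩ ⟨a, ha⟩)
  have hcompl := MonoidHom.ker_transferSylow_isComplement' Q hc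
  rcases IsSimpleGroup.eq_bot_or_eq_top_of_normal (MonoidHom.transferSylow Q hc).ker inferInstance with h | h
  · have := hcompl.card_mul
    rw [h, card_bot, hQ, hcard] at this; omega
  · have := hcompl.card_mul
    rw [h, card_top, hQ, hcard] at this; omega

theorem false_of_one [IsSimpleGroup G] (hnc : ¬ IsMulCommutative G) (hcard : Nat.card G = 1512) :
    False := by
  classical
  haveI : Fact (Nat.Prime 3) := ⟨Nat.prime_three⟩
  haveI : Fact (Nat.Prime 2) := ⟨Nat.prime_two⟩
  obtain ⟨P⟩ := (inferInstance : Nonempty (Sylow 3 G))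
  obtain ⟨R, hR⟩ : ∃ R, R = (P : Subgroup G) := ⟨_, rfl⟩
  have hRc : Nat.card R = 27 := by
    rw [hR, P.card_eq_multiplicity, hcard,
      show (1512 : ℕ).factorization 3 = 3 by
        rw [show (1512 : ℕ) = 3 ^ 3 * 56 from rfl, Nat.factorization_mul (by norm_num) (by norm_num),
          Finsupp.add_apply, Nat.Prime.factorization_pow (by norm_num), Finsupp.single_eq_same,
          Nat.factorization_eq_zero_of_not_dvd (by norm_num)]]
    norm_num
  have hRp : IsPGroup 3 R := IsPGroup.of_card (n := 3) (by rw [hRc]; norm_num)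
  have hidxH : Nat.card (G ⧸ Z.H) = 9 := by
    have h := Z.H.card_mul_index
    rw [Z.cardH, hcard] at h
    show Z.H.index = 9
    omega
  -- `R` is transitive with stabilizers of order three
  have hstab : ∀ x : G ⧸ Z.H, orbit R x = Set.univ ∧ Nat.card (stabilizer R x) = 3 := by
    intro x
    obtain ⟨g, rfl⟩ := QuotientGroup.mk_surjective x
    have hg : (g : G ⧸ Z.H) = g • o := by
      rw [MulAction.Quotient.smul_mk, smul_eq_mul, mul_one]
    have hle : (stabilizer R (g : G ⧸ Z.H)).map R.subtype ≤ Z.H.map (MulAut.conj g).toMonoidHom := by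
      rintro _ ⟨r, hr, rfl⟩
      refine ⟨g⁻¹ * (r : G) * g, ?_, by simp [mul_assoc]⟩
      show g⁻¹ * (r : G) * g ∈ Z.H
      rw [← smul_o_iff Z, mul_smul, mul_smul, ← hg, inv_smul_eq_iff, ← hg]
      exact hr
    have h1 := card_dvd_of_le hle
    rw [card_map_of_injective R.subtype_injective,
      card_map_of_injective (MulAut.conj g).injective, Z.cardH] at h1
    have h27 : Nat.card (stabilizer R (g : G ⧸ Z.H)) ∣ 27 := hRc ▸ card_subgroup_dvd_card _
    have h3 : Nat.card (stabilizer R (g : G ⧸ Z.H)) ∣ 3 :=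
      (Nat.dvd_gcd h27 h1).trans (dvd_of_eq (by norm_num))
    have horb : (orbit R (g : G ⧸ Z.H)).ncard * Nat.card (stabilizer R (g : G ⧸ Z.H)) = 27 := by
      rw [← index_stabilizer, mul_comm, card_mul_index, hRc]
    have hb : (orbit R (g : G ⧸ Z.H)).ncard ≤ 9 := by
      rw [← hidxH, ← Set.ncard_univ]
      exact Set.ncard_le_ncard (Set.subset_univ _) Set.finite_univ
    have hs3 : Nat.card (stabilizer R (g : G ⧸ Z.H)) = 3 := by
      rcases (Nat.dvd_prime Nat.prime_three).1 h3 with h | h
      · rw [h] at horb; omega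
      · exact h
    refine ⟨Set.eq_of_subset_of_ncard_le (Set.subset_univ _) ?_ Set.finite_univ, hs3⟩
    rw [Set.ncard_univ, hidxH]
    rw [hs3] at horb
    omega
  -- central elements of `R` with a fixed point are trivial
  have hcent : ∀ c ∈ R, (∀ r ∈ R, Commute r c) → ∀ x : G ⧸ Z.H, c • x = x → c = 1 := by
    intro c _ hcr x hx
    have hall : ∀ z : G ⧸ Z.H, c • z = z := by
      intro z
      obtain ⟨r, hr⟩ : z ∈ orbit R x := (hstab x).1.symm ▸ Set.mem_univ z
      have hr' : (r : G) • x = z := hr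
      rw [← hr', smul_smul, ← (hcr r r.2).eq, mul_smul, hx]
    have hmem : c ∈ (toPermHom G (G ⧸ Z.H)).ker := Equiv.ext hall
    rcases IsSimpleGroup.eq_bot_or_eq_top_of_normal (toPermHom G (G ⧸ Z.H)).ker inferInstance with h | h
    · rwa [h, mem_bot] at hmem
    · refine absurd ?_ Z.hH.1
      refine eq_top_iff.2 fun g _ => (smul_o_iff Z).1 ?_
      exact congrArg (fun p : Equiv.Perm (G ⧸ Z.H) => p o) (MonoidHom.mem_ker.1 (h ▸ mem_top g))
  -- an involution normalizing `R`
  have hNc : Nat.card ↥(normalizer (R : Set G)) = 54 := by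
    have hidx : (P : Subgroup G).index = 56 := by
      have := (P : Subgroup G).card_mul_index
      rw [← hR, hRc, hcard] at this; rw [← hR]; omega
    have hdvd : Nat.card (Sylow 3 G) ∣ 56 := hidx ▸ P.card_dvd_index
    have hmod : Nat.card (Sylow 3 G) % 3 = 1 := card_sylow_modEq_one 3 G
    have hne := CfsgLib.Invol.one_lt_card_sylow hnc (p := 3) (by rw [hcard]; norm_num)
    have hfac := CfsgLib.Invol.sylow_dvd_factorial hnc (p := 3) (by rw [hcard]; norm_num)
    rw [hcard] at hfac
    have key : ∀ k : Fin 57, k.val ∣ 56 → k.val % 3 = 1 → 1 < k.val →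
        k.val = 4 ∨ k.val = 7 ∨ k.val = 28 := by decide +kernel
    have h28 : Nat.card (Sylow 3 G) = 28 := by
      rcases key ⟨_, Nat.lt_succ_of_le (Nat.le_of_dvd (by norm_num) hdvd)⟩ hdvd hmod hne with h | h | h
      · rw [show Nat.card (Sylow 3 G) = 4 from h] at hfac; norm_num [Nat.factorial] at hfac
      · rw [show Nat.card (Sylow 3 G) = 7 from h] at hfac; norm_num [Nat.factorial] at hfac
      · exact h
    have h1 := (normalizer ((P : Subgroup G) : Set G)).card_mul_index
    have h2 : (normalizer ((P : Subgroup G) : Set G)).index = 28 := by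
      rw [← h28]; exact P.card_eq_index_normalizer.symm
    rw [h2, hcard] at h1
    rw [hR]; omega
  obtain ⟨t', ht'⟩ := exists_prime_orderOf_dvd_card' 2
    (show 2 ∣ Nat.card ↥(normalizer (R : Set G)) by rw [hNc]; norm_num)
  obtain ⟨t, ht, htN⟩ : ∃ t : G, orderOf t = 2 ∧ t ∈ normalizer (R : Set G) :=
    ⟨t', by rwa [Subgroup.orderOf_coe], t'.2⟩
  -- it centralizes a noncentral element
  obtain ⟨c, hcR, hct, hc1⟩ : ∃ c ∈ R, Commute c t ∧ c ≠ 1 := by
    by_contra hno
    push Not at hno
    let φ : R →* R :=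
      { toFun := fun x => ⟨t * x * t⁻¹, (mem_normalizer_iff.1 htN _).1 x.2⟩
        map_one' := Subtype.ext (by simp)
        map_mul' := fun a b => Subtype.ext (by simp [mul_assoc]) }
    have hfp : MonoidHom.FixedPointFree φ := fun x hx => by
      have hx' : t * (x : G) * t⁻¹ = x := congrArg Subtype.val hx
      exact Subtype.ext (hno x x.2 (mul_inv_eq_iff_eq_mul.1 hx').symm)
    have h2 : Function.Involutive φ := fun x => Subtype.ext (by
      show t * (t * (x : G) * t⁻¹) * t⁻¹ = x
      rw [CfsgLib.Invol.invol_inv ht, ← mul_assoc, ← mul_assoc, CfsgLib.Invol.invol_mul_self ht,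
        one_mul, mul_assoc, CfsgLib.Invol.invol_mul_self ht, mul_one])
    -- then `R` is abelian and a point stabilizer is central
    have hs := (hstab o).2
    haveI : Nontrivial ↥(stabilizer R o) := Finite.one_lt_card_iff_nontrivial.1 (by rw [hs]; norm_num)
    obtain ⟨⟨r, hr⟩, hr1⟩ := exists_ne (1 : ↥(stabilizer R o))
    refine hr1 (Subtype.ext (Subtype.ext ?_))
    exact hcent r r.2 (fun s hs' => congrArg Subtype.val (hfp.commute_all_of_involutive h2 ⟨s, hs'⟩ r)) o hr
  obtain ⟨a, -, hfixC⟩ := exists_fix_centralizer Z ht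
  have hcZ : ¬ ∀ r ∈ R, Commute r c := fun h => hc1 (hcent c hcR h a (hfixC c hct))
  -- the center has index at most nine
  obtain ⟨k, hk0, hk⟩ := IsPGroup.card_center_eq_prime_pow (G := R) (p := 3) (n := 3)
    (by rw [hRc]; norm_num) (by norm_num)
  obtain ⟨N, hN⟩ : ∃ N, N = normalizer (R : Set G) := ⟨_, rfl⟩
  have hRN : R ≤ N := hN ▸ le_normalizer
  haveI hab : IsMulCommutative (R ⧸ center R) := by
    have hq := Subgroup.card_mul_index (center R)
    rw [hRc, hk] at hq
    have hk3 : k ≤ 3 := (Nat.pow_le_pow_iff_right (by norm_num : 1 < 3)).1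
      ((Nat.le_of_dvd (by norm_num) ⟨_, hq.symm⟩).trans (by norm_num))
    have hidx : (center R).index = Nat.card (R ⧸ center R) := rfl
    interval_cases k
    · exact IsPGroup.isMulCommutative_of_card_eq_prime_sq (p := 3) (by rw [← hidx]; omega)
    · haveI : IsCyclic (R ⧸ center R) := isCyclic_of_prime_card (p := 3) (by rw [← hidx]; omega)
      infer_instance
    · haveI : Subsingleton (R ⧸ center R) := (Nat.card_eq_one_iff_unique.1 (by rw [← hidx]; omega)).1
      exact ⟨⟨fun _ _ => Subsingleton.elim _ _⟩⟩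
  letI : CommGroup (R ⧸ center R) :=
    { (inferInstance : Group (R ⧸ center R)) with mul_comm := fun a b => hab.is_comm.comm a b }
  let φ₀ : ↥(R.subgroupOf N) →* R ⧸ center R :=
    (QuotientGroup.mk' (center R)).comp (subgroupOfEquivOfLe hRN).toMonoidHom
  obtain ⟨V, hV⟩ : ∃ V : N →* R ⧸ center R, V = MonoidHom.transfer φ₀ := ⟨_, rfl⟩
  have hidx2 : (R.subgroupOf N).index = 2 := by
    have := (R.subgroupOf N).card_mul_index
    rw [Nat.card_congr (subgroupOfEquivOfLe hRN).toEquiv, hRc, hN, hNc] at this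
    rw [hN]; omega
  haveI : (R.subgroupOf N).Normal := Subgroup.normal_of_index_eq_two hidx2
  have hVc : V ⟨c, hRN hcR⟩ ≠ 1 := by
    haveI : Fintype (N ⧸ R.subgroupOf N) := Fintype.ofFinite _
    obtain ⟨T, hT⟩ : ∃ T : N, T = ⟨t, hN ▸ htN⟩ := ⟨_, rfl⟩
    have hTR : T ∉ R.subgroupOf N := by
      rw [hT, mem_subgroupOf]
      intro h
      have := Subgroup.orderOf_dvd_natCard R h
      rw [ht, hRc] at this; norm_num at this
    have hcase : ∀ q : N ⧸ R.subgroupOf N,
        q = ((1 : N) : N ⧸ R.subgroupOf N) ∨ q = (T : N ⧸ R.subgroupOf N) := by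
      intro q
      obtain ⟨n, rfl⟩ := QuotientGroup.mk_surjective q
      by_cases hn : n ∈ R.subgroupOf N
      · exact Or.inl (QuotientGroup.eq.2 (by simpa using inv_mem hn))
      · refine Or.inr (QuotientGroup.eq.2 ?_)
        rw [Subgroup.mul_mem_iff_of_index_two hidx2, inv_mem_iff]
        simp [hn, hTR]
    obtain ⟨s, hsdef⟩ : ∃ s : N ⧸ R.subgroupOf N → N,
        s = fun q => if q = ((1 : N) : N ⧸ R.subgroupOf N) then 1 else T := ⟨_, rfl⟩
    have hs : ∀ q, ((s q : N) : N ⧸ R.subgroupOf N) = q := by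
      intro q
      rw [hsdef]
      by_cases hq : q = ((1 : N) : N ⧸ R.subgroupOf N)
      · simp only [hq, if_true]
      · simp only [hq, if_false]
        exact ((hcase q).resolve_left hq).symm
    rw [hV, CfsgLib.HallWielandt.transfer_eq_prod φ₀ _ s hs]
    have hterm : ∀ q : N ⧸ R.subgroupOf N,
        φ₀ ⟨(s ((⟨c, hRN hcR⟩ : N) • q))⁻¹ * ⟨c, hRN hcR⟩ * s q,
          CfsgLib.HallWielandt.smul_coset_mem s hs _ q⟩ = QuotientGroup.mk' (center R) ⟨c, hcR⟩ := by
      intro q
      have hfix : (⟨c, hRN hcR⟩ : N) • q = q := by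
        obtain ⟨n, rfl⟩ := QuotientGroup.mk_surjective q
        rw [MulAction.Quotient.smul_mk, smul_eq_mul, QuotientGroup.eq]
        have hm : (⟨c, hRN hcR⟩ : N)⁻¹ ∈ R.subgroupOf N := inv_mem (mem_subgroupOf.2 hcR)
        have h := (inferInstance : (R.subgroupOf N).Normal).conj_mem _ hm n⁻¹
        simpa [mul_assoc] using h
      simp only [hfix]
      refine congrArg (QuotientGroup.mk' (center R)) (Subtype.ext ?_)
      show (((s q)⁻¹ * ⟨c, hRN hcR⟩ * s q : N) : G) = c
      rw [hsdef]
      by_cases hq : q = ((1 : N) : N ⧸ R.subgroupOf N)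
      · simp [hq]
      · simp only [hq, if_false, hT, Subgroup.coe_mul, InvMemClass.coe_inv]
        rw [mul_assoc, hct.eq, inv_mul_cancel_left]
    rw [Finset.prod_congr rfl fun q _ => hterm q, Finset.prod_const, Finset.card_univ,
      ← Nat.card_eq_fintype_card]
    intro h
    have hc2 : QuotientGroup.mk' (center R) ⟨c, hcR⟩ ^ 2 = 1 := by
      rwa [show Nat.card (N ⧸ R.subgroupOf N) = 2 from hidx2] at h
    rw [← map_pow, QuotientGroup.mk'_apply, QuotientGroup.eq_one_iff] at hc2
    obtain ⟨i, hi⟩ := hRp ⟨c, hcR⟩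
    have hce : (⟨c, hcR⟩ : R) ∈ center R := by
      obtain ⟨j, hj⟩ := exists_pow_eq_self_of_coprime (x := (⟨c, hcR⟩ : R)) (n := 2)
        (Nat.Coprime.coprime_dvd_right (orderOf_dvd_of_pow_eq_one hi)
          ((by norm_num : Nat.Coprime 2 3).pow_right i))
      exact hj ▸ pow_mem hc2 j
    exact hcZ fun r hr => congrArg Subtype.val (mem_center_iff.1 hce ⟨r, hr⟩)
  -- Hall–Wielandt
  have hweak : Cfsg.IsWeaklyClosed (P : Subgroup G) (P : Subgroup G) :=
    ⟨le_rfl, fun g hg => Subgroup.eq_of_le_of_card_ge hg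
      (le_of_eq (card_map_of_injective (MulAut.conj g).injective).symm)⟩
  have heng : ∀ u ∈ (P : Subgroup G), ∀ z ∈ (P : Subgroup G),
      (CfsgLib.HallWielandt.eng z)^[3 - 1] u = 1 := by
    intro u hu z hz
    rw [← hR] at hu hz
    have hw : (⟨u, hu⟩ : R)⁻¹ * (⟨z, hz⟩ : R)⁻¹ * ⟨u, hu⟩ * ⟨z, hz⟩ ∈ center R := by
      rw [← QuotientGroup.eq_one_iff]
      simp only [QuotientGroup.mk_mul, QuotientGroup.mk_inv]
      rw [mul_comm ((⟨u, hu⟩ : R) : R ⧸ center R)⁻¹]
      group
    have hcomm : Commute z (u⁻¹ * z⁻¹ * u * z) :=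
      (congrArg Subtype.val (mem_center_iff.1 hw ⟨z, hz⟩) : _)
    show CfsgLib.HallWielandt.eng z (CfsgLib.HallWielandt.eng z u) = 1
    show (u⁻¹ * z⁻¹ * u * z)⁻¹ * z⁻¹ * (u⁻¹ * z⁻¹ * u * z) * z = 1
    rw [mul_assoc (_ * _) _ z, ← hcomm.eq]
    group
  have hres := CfsgLib.HallWielandt.pResidualOf_normalizer_eq P (P : Subgroup G) hweak heng
  have htop : Cfsg.pResidual 3 G = ⊤ := by
    have hmem : t ∈ Cfsg.pResidual 3 G := Subgroup.subset_closure (show Nat.Coprime (orderOf t) 3 by
      rw [ht]; norm_num)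
    haveI := CfsgLib.Fusion.pResidual_normal (G := G) (p := 3)
    refine (IsSimpleGroup.eq_bot_or_eq_top_of_normal _ inferInstance).resolve_left fun h => ?_
    rw [h, mem_bot] at hmem
    rw [hmem, orderOf_one] at ht
    norm_num at ht
  rw [htop, top_inf_eq, ← hR, ← hN] at hres
  have hker : Cfsg.pResidual 3 ↥N ≤ V.ker := (closure_le _).2 fun x hx => by
    refine MonoidHom.mem_ker.2 (orderOf_eq_one_iff.1 ?_)
    obtain ⟨i, hi⟩ := (hRp.to_quotient (center R)) (V x)
    exact Nat.eq_one_of_dvd_coprimes ((hx : Nat.Coprime (orderOf x) 3).pow_right i)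
      (orderOf_map_dvd V x) (orderOf_dvd_of_pow_eq_one hi)
  refine hVc (MonoidHom.mem_ker.1 (hker ?_))
  have hcN : c ∈ Cfsg.pResidualOf 3 N := hres.symm ▸ hRN hcR
  obtain ⟨w, hw, hwe⟩ := hcN
  rwa [show (⟨c, hRN hcR⟩ : N) = w from Subtype.ext hwe.symm]

/-- The configuration does not occur in a simple group. -/
theorem false_of_conf [IsSimpleGroup G] (hnc : ¬ IsMulCommutative G) : False := by
  obtain ⟨y, -, -, m, hm, hC, hN, hG⟩ := exists_order Z
  have hle := Nat.le_of_dvd (by norm_num) hm
  have key : ∀ k : Fin 22, k.val ∣ 21 → k.val = 1 ∨ k.val = 3 ∨ k.val = 7 ∨ k.val = 21 := by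
    decide +kernel
  rcases key ⟨m, Nat.lt_succ_of_le hle⟩ hm with h | h | h | h
  · exact false_of_one Z hnc (by have h' : m = 1 := h; omega)
  · exact false_of_three Z hnc (by have h' : m = 3 := h; omega)
  · exact false_of_seven Z hnc (y := y) (by have h' : m = 7 := h; omega)
      (by have h' : m = 7 := h; omega) (by have h' : m = 7 := h; omega)
  · exact false_of_twentyOne hnc (by have h' : m = 21 := h; omega)

end CfsgLib.ElemEight
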