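import Cfsg.Agent.Lib.OddConseq.TwoGenCoreEmbedded
import Cfsg.Agent.Lib.OddConseq.ElemEight.CoreData
import Cfsg.Agent.Lib.OddConseq.ElemEight.Orders
import Cfsg.Agent.Lib.Char.TransLinear.AutCard

/-!
# The automizer of an elementary Sylow 2-subgroup of order 8 with solvable involution centralizers
-/

set_option autoImplicit false

namespace CfsgLib.ElemEight

open Subgroup

universe u

variable {G : Type u} [Group G] [Finite G]

/-- The cores of the involution centralizers are trivial: the odd closure `W` over `S` would give the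
configuration excluded by Brauer's count. -/
theorem theta_eq_bot (hFT : CfsgLib.OddConseq.OddSolvable.{u}) [IsSimpleGroup G] (S : Sylow 2 G)
    (hS : Cfsg.IsElementaryAbelian 2 (S : Subgroup G)) (hS8 : Nat.card ↥(S : Subgroup G) = 8)
    (hC : ∀ t : G, orderOf t = 2 → Group.IsSolvable ↥(centralizer ({t} : Set G)))
    (hbal : Cfsg.IsBalanced G) (t : G) (ht : orderOf t = 2) :
    Cfsg.centralizerPPrimeCore 2 t = ⊥ := by
  classical
  haveI : Fact (Nat.Prime 2) := ⟨Nat.prime_two⟩
  obtain ⟨a, haS, hao⟩ := CfsgLib.Invol.exists_invol_mem (H := (S : Subgroup G)) (by rw [hS8]; decide)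
  have ha : a ≠ 1 := fun e => by rw [e, orderOf_one] at hao; norm_num at hao
  obtain ⟨b, hbS, hb1, hba⟩ : ∃ b ∈ (S : Subgroup G), b ≠ 1 ∧ b ≠ a := by
    by_contra hno
    push Not at hno
    have hle : (S : Subgroup G) ≤ zpowers a := fun y hy => by
      by_cases hy1 : y = 1
      · exact hy1 ▸ one_mem _
      · rw [hno y hy hy1]; exact mem_zpowers a
    have := Nat.le_of_dvd Nat.card_pos (card_dvd_of_le hle)
    rw [Nat.card_zpowers, hao, hS8] at this
    omega
  have hU := CfsgLib.Invol.isKleinFour_closure_pair hao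
    (orderOf_eq_prime (hS.2 b hbS) hb1) (Ne.symm hba) (CfsgLib.EABasic.comm_of_isElementaryAbelian hS haS hbS)
  have hUS : Subgroup.closure {a, b} ≤ (S : Subgroup G) :=
    (closure_le _).2 (by rintro y (rfl | rfl) <;> assumption)
  have hodd := (CfsgLib.TwoGenCore.W_eq_of_le hFT hbal hU hS (by rw [hS8]; norm_num) hUS).2
  have hW : CfsgLib.TwoGenCore.W (S : Subgroup G) = ⊥ := by
    by_contra hne
    have P : Setup G :=
      { S := S, hS := hS, hS8 := hS8, W := CfsgLib.TwoGenCore.W (S : Subgroup G), odd := hodd, ne := hne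
        norm := fun g hg => by
          rw [mem_normalizer_iff_map_conj_eq] at hg ⊢
          show (CfsgLib.TwoGenCore.W (S : Subgroup G)).map (MulAut.conj g).toMonoidHom = _
          rw [← CfsgLib.TwoGenCore.W_conj]
          exact congrArg _ hg
        theta_le := fun x hx hx1 => CfsgLib.TwoGenCore.theta_le_W hx hx1
        solvable := hC }
    obtain ⟨D⟩ := P.nonempty_countData
    haveI := Fintype.ofFinite G
    exact CountData.contradiction D
  obtain ⟨g, hg⟩ := CfsgLib.Invol.exists_conj_le_sylow (Q := zpowers t)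
    (IsPGroup.of_card (n := 1) (by rw [Nat.card_zpowers, ht, pow_one])) S
  have h := CfsgLib.TwoGenCore.theta_le_W (hg t (mem_zpowers t)) (fun e => by
    have := CfsgLib.Invol.invol_conj ht g
    rw [e, orderOf_one] at this; norm_num at this)
  rw [hW, le_bot_iff, CfsgLib.TwoGenCore.theta_conj] at h
  exact (Subgroup.map_eq_bot_iff_of_injective _ (MulAut.conj g).injective).1 h

/-- A simple group with elementary abelian Sylow 2-subgroups of order 8 and solvable centralizers of
involutions has automizer of order 7. -/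
theorem relIndex_eq_seven (hFT : CfsgLib.OddConseq.OddSolvable.{u})
    [IsSimpleGroup G] (hG : ¬ IsMulCommutative G) (S : Sylow 2 G)
    (hS : Cfsg.IsElementaryAbelian 2 (S : Subgroup G)) (hS8 : Nat.card ↥(S : Subgroup G) = 8)
    (hC : ∀ t : G, orderOf t = 2 → Group.IsSolvable ↥(centralizer ({t} : Set G))) :
    (centralizer ((S : Subgroup G) : Set G)).relIndex (normalizer ((S : Subgroup G) : Set G)) = 7 := by
  classical
  haveI : Fact (Nat.Prime 2) := ⟨Nat.prime_two⟩
  haveI hScomm : IsMulCommutative ↥(S : Subgroup G) := hS.1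
  have hcomm : ∀ a ∈ (S : Subgroup G), ∀ b ∈ (S : Subgroup G), a * b = b * a := fun a ha b hb =>
    CfsgLib.EABasic.comm_of_isElementaryAbelian hS ha hb
  have hc : ¬ Cfsg.IsComponentType G := by
    rintro ⟨t, ht, K, -, hK⟩
    haveI := hC t ht
    haveI : Group.IsSolvable (↥(centralizer ({t} : Set G)) ⧸ Cfsg.oddCore ↥(centralizer ({t} : Set G))) :=
      Group.isSolvable_of_surjective (QuotientGroup.mk'_surjective _)
    exact CfsgLib.Coprime.not_isSolvable_of_isQuasisimple hK inferInstance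
  have hcore : ∀ t : G, orderOf t = 2 → Cfsg.centralizerPPrimeCore 2 t = ⊥ :=
    theta_eq_bot hFT S hS hS8 hC (CfsgLib.TwoGenCore.isBalanced_of_not_componentType hc)
  -- the centralizer of an involution of `S` normalizes `S`
  have hCS : ∀ t ∈ (S : Subgroup G), orderOf t = 2 →
      centralizer ({t} : Set G) ≤ normalizer ((S : Subgroup G) : Set G) ∧
      ∀ x ∈ centralizer ({t} : Set G), (∀ s ∈ (S : Subgroup G), Commute x s) → x ∈ (S : Subgroup G) := by
    intro t htS ht
    obtain ⟨C, hCdef⟩ : ∃ C, C = centralizer ({t} : Set G) := ⟨_, rfl⟩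
    have hSC : (S : Subgroup G) ≤ C := fun s hs =>
      hCdef ▸ mem_centralizer_singleton_iff.2 (hcomm s hs t htS)
    rw [← hCdef]
    have hbot : Cfsg.pPrimeCore 2 ↥C = ⊥ := by
      subst hCdef
      exact (Subgroup.map_eq_bot_iff_of_injective _ (subtype_injective _)).1 (hcore t ht)
    haveI hsol : Group.IsSolvable ↥C := by subst hCdef; exact hC t ht
    have hclean := CfsgLib.CoreUnique.centralizer_pCore_le (L := ↥C)
      (fun ⟨K, _, hK⟩ => CfsgLib.Coprime.not_isSolvable_of_isQuasisimple hK inferInstance) hbot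
    obtain ⟨O, hOdef⟩ : ∃ O, O = Cfsg.pCore 2 ↥C := ⟨_, rfl⟩
    rw [← hOdef] at hclean
    have hOS : O ≤ (S : Subgroup G).subgroupOf C := by
      rw [hOdef]
      refine sSup_le fun N hN => ?_
      haveI := hN.1
      exact hN.2.le_sylow_of_normal (S.subtype hSC)
    have hSO : (S : Subgroup G).subgroupOf C = O := le_antisymm
      (fun (s : ↥C) hs => hclean (mem_centralizer_iff.2 fun y hy =>
        Subtype.ext (hcomm (y : G) (hOS hy) (s : G) hs))) hOS
    haveI : O.Normal := hOdef ▸ CfsgLib.Coprime.pCore_normal' 2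
    refine ⟨?_, fun x hx hxc => ?_⟩
    · haveI : ((S : Subgroup G).subgroupOf C).Normal := hSO ▸ inferInstance
      exact (normal_subgroupOf_iff_le_normalizer hSC).1 inferInstance
    · have : (⟨x, hx⟩ : C) ∈ O := hclean (mem_centralizer_iff.2 fun y hy =>
        Subtype.ext (hxc y (hOS hy)).symm.eq)
      exact hOS this
  obtain ⟨t₀, ht₀S, ht₀⟩ : ∃ t ∈ (S : Subgroup G), orderOf t = 2 :=
    CfsgLib.Invol.exists_invol_mem (by rw [hS8]; decide)
  have hcent : ∀ x : G, (∀ s ∈ (S : Subgroup G), Commute x s) → x ∈ (S : Subgroup G) := fun x hx =>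
    (hCS t₀ ht₀S ht₀).2 x (mem_centralizer_singleton_iff.2 (hx t₀ ht₀S).eq) hx
  obtain ⟨H, hHdef⟩ : ∃ H, H = normalizer ((S : Subgroup G) : Set G) := ⟨_, rfl⟩
  have hSH : (S : Subgroup G) ≤ H := hHdef ▸ le_normalizer
  have hCeq : centralizer ((S : Subgroup G) : Set G) = (S : Subgroup G) :=
    le_antisymm (fun x hx => hcent x fun s hs => ((mem_centralizer_iff.1 hx) s hs).symm)
      fun s hs => mem_centralizer_iff.2 fun y hy => hcomm y hy s hs
  rw [hCeq, ← hHdef]
  -- the index divides 21
  obtain ⟨n, hn⟩ : ∃ n, n = (S : Subgroup G).relIndex H := ⟨_, rfl⟩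
  rw [← hn]
  have hnodd : ¬ 2 ∣ n := fun h =>
    S.not_dvd_index (h.trans (hn ▸ relIndex_dvd_index_of_le hSH))
  have hcardH : Nat.card H = 8 * n := by
    have h := ((S : Subgroup G).subgroupOf H).card_mul_index
    rw [Nat.card_congr (subgroupOfEquivOfLe hSH).toEquiv, hS8] at h
    exact hn ▸ h.symm
  have hn21 : n ∣ 21 := by
    letI : CommGroup ↥(S : Subgroup G) :=
      { (inferInstance : Group ↥(S : Subgroup G)) with mul_comm := fun a b => Subtype.ext (hcomm a a.2 b b.2) }
    have haut : Nat.card (MulAut ↥(S : Subgroup G)) = 168 := by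
      rw [CfsgLib.Char.card_mulAut_of_exponent_prime (p := 2) (n := 3)
        (fun x => Subtype.ext (hS.2 _ x.2)) (by rw [hS8]; norm_num)]
      unfold CfsgLib.Char.glCard; decide
    have hdvd : n ∣ 168 := by
      subst hHdef
      obtain ⟨φ, hφ⟩ : ∃ φ, φ = normalizerMonoidHom (S : Subgroup G) := ⟨_, rfl⟩
      have hker : φ.ker = (S : Subgroup G).subgroupOf (normalizer ((S : Subgroup G) : Set G)) := by
        rw [hφ, normalizerMonoidHom_ker, hCeq]
      have := card_subgroup_dvd_card φ.range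
      rw [← Subgroup.index_ker, hker, haut] at this
      exact hn ▸ this
    exact (((Nat.Prime.coprime_iff_not_dvd Nat.prime_two).2 hnodd).symm.pow_right 3).dvd_of_dvd_mul_left
      (show n ∣ 2 ^ 3 * 21 from hdvd)
  -- `H` is strongly embedded
  have hHtop : H ≠ ⊤ := by
    intro h
    haveI : (S : Subgroup G).Normal := normalizer_eq_top_iff.1 (hHdef ▸ h)
    rcases IsSimpleGroup.eq_bot_or_eq_top_of_normal (S : Subgroup G) inferInstance with e | e
    · rw [e, card_bot] at hS8; norm_num at hS8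
    · exact hG ⟨⟨fun a b => hcomm a (e ▸ mem_top a) b (e ▸ mem_top b)⟩⟩
  have hinvS : ∀ t ∈ H, orderOf t = 2 → t ∈ (S : Subgroup G) := by
    intro t htH ht
    haveI : ((S : Subgroup G).subgroupOf H).Normal :=
      (normal_subgroupOf_iff_le_normalizer hSH).2 (hHdef ▸ le_rfl)
    have h := Subgroup.pow_index_mem ((S : Subgroup G).subgroupOf H) (⟨t, htH⟩ : H)
    have hidx : ((S : Subgroup G).subgroupOf H).index = n := hn.symm
    rw [hidx, mem_subgroupOf, SubgroupClass.coe_pow] at h
    obtain ⟨k, hk⟩ : Odd n := Nat.not_even_iff_odd.1 fun he => hnodd (even_iff_two_dvd.1 he)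
    have h2 : t ^ 2 = 1 := ht ▸ pow_orderOf_eq_one t
    rwa [hk, pow_succ, pow_mul, h2, one_pow, one_mul] at h
  have hSE' : Cfsg.IsStronglyEmbedded H := by
    rw [CfsgLib.Invol.stronglyEmbedded_iff hHtop (by rw [hcardH]; exact ⟨4 * n, by ring⟩)]
    intro t htH ht g hg
    have htS := hinvS t htH ht
    have hgS := hinvS _ hg (CfsgLib.Invol.invol_conj ht g)
    obtain ⟨m, hm, hme⟩ := S.conj_eq_normalizer_conj_of_mem t g⁻¹ htS (by rw [inv_inv]; exact hgS)
    have hc : m * g ∈ centralizer ({t} : Set G) := by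
      rw [mem_centralizer_singleton_iff]
      rw [inv_inv] at hme
      calc m * g * t = m * (g * t * g⁻¹) * g := by group
        _ = m * (m⁻¹ * t * m) * g := by rw [hme]
        _ = t * (m * g) := by group
    have := (hCS t htS ht).1 hc
    rw [← hHdef] at this
    exact (Subgroup.mul_mem_cancel_left H (hHdef ▸ hm)).1 this
  -- `H` is transitive on the involutions of `S`, so 7 divides the index
  have h7 : 7 ≤ n := by
    have hle : ∀ s : {s : ↥(S : Subgroup G) // s ≠ 1}, ∃ q : H ⧸ (S : Subgroup G).subgroupOf H,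
        ∀ h : H, (h : H ⧸ (S : Subgroup G).subgroupOf H) = q → (h : G) * t₀ * (h : G)⁻¹ = (s.1 : G) := by
      intro s
      have hs : orderOf (s.1 : G) = 2 := orderOf_eq_prime (hS.2 _ s.1.2) fun e => s.2 (Subtype.ext e)
      obtain ⟨g, hg⟩ := isConj_iff.1 (CfsgLib.Invol.exists_conj_fixing hSE' ht₀ hs)
      have hgH : g ∈ H := CfsgLib.Invol.mem_of_conj_mem hSE' (hSH ht₀S) ht₀ (hg ▸ hSH s.1.2)
      refine ⟨((⟨g, hgH⟩ : H) : H ⧸ (S : Subgroup G).subgroupOf H), fun h hh => ?_⟩
      have hm : ((⟨g, hgH⟩ : H)⁻¹ * h) ∈ (S : Subgroup G).subgroupOf H := QuotientGroup.eq.1 hh.symm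
      rw [mem_subgroupOf] at hm
      have hfix : g⁻¹ * (h : G) * t₀ = t₀ * (g⁻¹ * (h : G)) := hcomm _ hm t₀ ht₀S
      calc (h : G) * t₀ * (h : G)⁻¹ = g * (g⁻¹ * (h : G) * t₀) * (h : G)⁻¹ := by group
        _ = g * (t₀ * (g⁻¹ * (h : G))) * (h : G)⁻¹ := by rw [hfix]
        _ = (s.1 : G) := by rw [← hg]; group
    choose f hf using hle
    have hinj : Function.Injective f := by
      intro a b hab
      obtain ⟨h, hh⟩ := QuotientGroup.mk_surjective (f a)
      exact Subtype.ext (Subtype.ext ((hf a h hh).symm.trans (hf b h (hh.trans hab))))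
    have hcount := Nat.card_le_card_of_injective f hinj
    haveI hfin := Fintype.ofFinite ↥(S : Subgroup G)
    rw [Nat.card_eq_fintype_card, Fintype.card_subtype_compl (fun s : ↥(S : Subgroup G) => s = 1),
      Fintype.card_subtype_eq, ← Nat.card_eq_fintype_card, hS8] at hcount
    exact hcount.trans (le_of_eq hn.symm)
  have hle21 := Nat.le_of_dvd (by norm_num) hn21
  have key : ∀ k : Fin 22, k.val ∣ 21 → 7 ≤ k.val → k.val = 7 ∨ k.val = 21 := by decide +kernel
  rcases key ⟨n, Nat.lt_succ_of_le hle21⟩ hn21 h7 with h | h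
  · exact h
  exfalso
  have h21 : n = 21 := h
  refine false_of_conf (G := G) ⟨(S : Subgroup G), H, hSE', by rw [hcardH, h21], hS8, hSH,
    fun h hh s hs => (mem_normalizer_iff.1 (hHdef ▸ hh) s).1 hs, fun s hs => hS.2 s hs,
    fun a ha b hb => hcomm a ha b hb, hcent, fun t ht hto => hHdef ▸ (hCS t ht hto).1⟩ hG

end CfsgLib.ElemEight
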