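import Cfsg.Agent.Lib.Invol.PrincipalBlock
import Cfsg.Agent.Lib.Block.PrincipalCoreInflation
import Cfsg.Agent.Lib.Block.OneBlock
import Cfsg.Agent.Lib.Coprime.LBalance.LocalBalance
import Cfsg.Agent.Lib.Char.ClassMul

/-!
# The principal 2-block at an involution with constrained centralizer

If the centralizer of the involution `t` modulo its odd core `X` has a self-centralizing normal
2-subgroup, the principal block of the centralizer consists of the characters of the quotient, so a
character of the principal block is constant on `t X` and every other one sums to zero over a coset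
of `X` in the section of `t`.
-/

set_option autoImplicit false
set_option linter.unusedSectionVars false
set_option linter.style.haveILetI false

open Finset
open scoped ComplexConjugate

namespace CfsgLib.ElemEight.CoreBlock

open Cfsg CfsgLib.Block CfsgLib.Block.Cyclic

universe u

variable {G : Type u} [Group G] [Finite G] {M : Ideal AlgInt} [M.IsMaximal]

/-- The quotient by the odd core has a self-centralizing normal 2-subgroup. -/
def Clean (t : G) : Prop :=
  Subgroup.centralizer
      (Cfsg.pCore 2 (↥(Subgroup.centralizer ({t} : Set G)) ⧸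
        Cfsg.oddCore ↥(Subgroup.centralizer ({t} : Set G))) : Set _) ≤
    Cfsg.pCore 2 (↥(Subgroup.centralizer ({t} : Set G)) ⧸
      Cfsg.oddCore ↥(Subgroup.centralizer ({t} : Set G)))

section Quotient

variable {C : Type u} [Group C] [Fintype C] [DecidableEq C] (N : Subgroup C) [N.Normal]

/-- The idempotent coefficients of a principal block made of the characters of a quotient. -/
theorem blockCoeff_eq (hM : IsPModular 2 M) (hN : ¬ 2 ∣ Nat.card N)
    (hone : ∀ θ : IrrCharacter (C ⧸ N),
      ∀ [Fintype (C ⧸ N)] [DecidableEq (C ⧸ N)], θ ∈ principalBlock M (C ⧸ N)) (c : C) [Decidable (c ∈ N)] :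
    blockCoeff (principalBlock M C) c = if c ∈ N then (Nat.card N : ℂ)⁻¹ else 0 := by
  classical
  haveI : Fact (Nat.Prime 2) := ⟨Nat.prime_two⟩
  letI := Fintype.ofFinite (C ⧸ N)
  letI := Fintype.ofFinite (IrrCharacter C)
  letI := Fintype.ofFinite (IrrCharacter (C ⧸ N))
  have hset : (principalBlock M C).toFinset =
      Finset.univ.image (inflQ (A := C) (Z := N)) := by
    ext χ
    simp only [Set.mem_toFinset, Finset.mem_image, Finset.mem_univ, true_and]
    constructor
    · intro hχ
      obtain ⟨θ, -, e⟩ := PrincipalCore.exists_inflQ_eq (N := N) hM hN hχ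
      exact ⟨θ, e⟩
    · rintro ⟨θ, rfl⟩
      exact (PrincipalCore.inflQ_mem_iff hM hN θ).2 (hone θ)
  have hinj : Function.Injective (inflQ (A := C) (Z := N)) := fun a b h => by
    refine Subtype.ext (funext fun q => ?_)
    obtain ⟨x, rfl⟩ := QuotientGroup.mk_surjective q
    exact congrArg (fun χ : IrrCharacter C => (χ : C → ℂ) x) h
  rw [blockCoeff, finsum_mem_eq_toFinset_sum, hset, Finset.sum_image fun a _ b _ e => hinj e]
  have h := Char.sum_irr_mul_conj (1 : C ⧸ N) (c : C ⧸ N)
  have hc : ∀ θ : IrrCharacter (C ⧸ N), (inflQ θ : C → ℂ) 1 * conj ((inflQ θ : C → ℂ) c) =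
      (θ : C ⧸ N → ℂ) 1 * conj ((θ : C ⧸ N → ℂ) (c : C ⧸ N)) := fun θ => rfl
  rw [Finset.sum_congr rfl fun θ _ => hc θ, h]
  have hiff : IsConj (1 : C ⧸ N) (c : C ⧸ N) ↔ c ∈ N := by
    rw [isConj_one_right, QuotientGroup.eq_one_iff]
  by_cases hcN : c ∈ N
  · rw [if_pos hcN, if_pos (hiff.2 hcN)]
    have hcent : Subgroup.centralizer ({(1 : C ⧸ N)} : Set (C ⧸ N)) = ⊤ := by
      rw [eq_top_iff]; intro x _; simp [Subgroup.mem_centralizer_iff]
    rw [hcent, Subgroup.card_top, Subgroup.card_eq_card_quotient_mul_card_subgroup N, Nat.cast_mul]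
    have : (Nat.card (C ⧸ N) : ℂ) ≠ 0 := Nat.cast_ne_zero.2 Nat.card_pos.ne'
    field_simp
  · rw [if_neg hcN, if_neg fun e => hcN (hiff.1 e), mul_zero]

end Quotient

section Section

variable {t : G}


theorem card_core : Nat.card ↥(Cfsg.centralizerPPrimeCore 2 t) = Nat.card ↥(Cfsg.oddCore ↥(Subgroup.centralizer ({t} : Set G))) := by
  rw [Cfsg.centralizerPPrimeCore, Subgroup.card_map_of_injective (Subgroup.subtype_injective _)]

theorem core_le : Cfsg.centralizerPPrimeCore 2 t ≤ Subgroup.centralizer ({t} : Set G) := Subgroup.map_subtype_le _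

variable [Fintype G] [DecidableEq G]

/-- A character of the principal block is constant on the coset of the core at the involution. -/
theorem irr_mul_core (hM : IsPModular 2 M) (ht : orderOf t = 2) {χ : IrrCharacter G}
    (hχ : χ ∈ principalBlock M G) {n : G} (hn : n ∈ Cfsg.centralizerPPrimeCore 2 t) : (χ : G → ℂ) (t * n) = (χ : G → ℂ) t := by
  classical
  haveI : Fact (Nat.Prime 2) := ⟨Nat.prime_two⟩
  haveI := CfsgLib.Coprime.pPrimeCore_characteristic (G := ↥(Subgroup.centralizer ({t} : Set G))) 2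
  letI := Fintype.ofFinite (IrrCharacter ↥(Subgroup.centralizer ({t} : Set G)))
  obtain ⟨⟨c, hc⟩, hcN, rfl⟩ := hn
  have hodd := CfsgLib.Coprime.pPrimeCore_not_dvd (G := ↥(Subgroup.centralizer ({t} : Set G))) Nat.prime_two
  have h := CfsgLib.Invol.irr_secElt_mul hM (x := t) ⟨1, by rw [ht, pow_one]⟩
    (fun x => Subgroup.mem_centralizer_singleton_iff) hχ (Cfsg.pPrimeCore 2 ↥(Subgroup.centralizer ({t} : Set G))) hodd
    (y := 1) (n := ⟨c, hc⟩) hcN (by rw [orderOf_one]; norm_num)
    (by rw [one_mul]; exact fun h => hodd (h.trans (Subgroup.orderOf_dvd_natCard _ hcN)))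
  simpa using h

/-- A character outside the principal block sums to zero over a coset of the core in the section. -/
theorem sum_core_eq_zero [Fintype ↥(Cfsg.centralizerPPrimeCore 2 t)] (hM : IsPModular 2 M) (ht : orderOf t = 2) (hclean : Clean t)
    {χ : IrrCharacter G} (hχ : χ ∉ principalBlock M G) {g : G} (hg : IsPPart 2 g t) :
    ∑ n : ↥(Cfsg.centralizerPPrimeCore 2 t), (χ : G → ℂ) (g * (n : G)) = 0 := by
  classical
  haveI : Fact (Nat.Prime 2) := ⟨Nat.prime_two⟩
  haveI := CfsgLib.Coprime.pPrimeCore_characteristic (G := ↥(Subgroup.centralizer ({t} : Set G))) 2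
  letI := Fintype.ofFinite (IrrCharacter ↥(Subgroup.centralizer ({t} : Set G)))
  obtain ⟨y, hy, hty, -, -⟩ := id hg
  have hgC : g ∈ Subgroup.centralizer ({t} : Set G) := Subgroup.mem_centralizer_singleton_iff.2 (by
    rw [← hy]; exact ((Commute.refl t).mul_left hty.symm).eq)
  have hodd := CfsgLib.Coprime.pPrimeCore_not_dvd (G := ↥(Subgroup.centralizer ({t} : Set G))) Nat.prime_two
  have h := CfsgLib.Invol.blockPart_restrict_eq_zero hM (x := t) ⟨1, by rw [ht, pow_one]⟩
    (fun x => Subgroup.mem_centralizer_singleton_iff) hχ (h := ⟨g, hgC⟩) (z := t) hg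
    (fun x hx => Subgroup.mem_centralizer_singleton_iff.2 hx.eq)
  rw [blockPart_eq_sum _ (fun a v => by
    simp only [Subgroup.coe_mul, InvMemClass.coe_inv]; exact Char.isClassFunction_irr χ (a : G) (v : G))] at h
  haveI : (Cfsg.pCore 2 (↥(Subgroup.centralizer ({t} : Set G)) ⧸ Cfsg.oddCore ↥(Subgroup.centralizer ({t} : Set G)))).Normal := CfsgLib.Coprime.pCore_normal' 2
  have hco : ∀ c : ↥(Subgroup.centralizer ({t} : Set G)), blockCoeff (principalBlock M ↥(Subgroup.centralizer ({t} : Set G))) c =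
      if c ∈ Cfsg.pPrimeCore 2 ↥(Subgroup.centralizer ({t} : Set G)) then (Nat.card ↥(Cfsg.pPrimeCore 2 ↥(Subgroup.centralizer ({t} : Set G))) : ℂ)⁻¹ else 0 := fun c =>
    blockCoeff_eq _ hM hodd (fun θ _ _ => OneBlock.mem_principal_of_constrained hM
      (CfsgLib.Coprime.pCore_isPGroup 2) hclean θ) c
  simp only [hco, ite_mul, zero_mul, Subgroup.coe_mul] at h
  rw [← Finset.sum_filter, ← Finset.mul_sum, mul_eq_zero] at h
  rcases h with h | h
  · exact absurd h (inv_ne_zero (Nat.cast_ne_zero.2 Nat.card_pos.ne'))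
  rw [← h]
  refine Finset.sum_bij' (fun n _ => (⟨(n : G), core_le n.2⟩ : ↥(Subgroup.centralizer ({t} : Set G))))
    (fun c hc => ⟨(c : G), c, (Finset.mem_filter.1 hc).2, rfl⟩) (fun n _ => ?_)
    (fun _ _ => Finset.mem_univ _) (fun n _ => rfl) (fun c _ => rfl) (fun n _ => ?_)
  · refine Finset.mem_filter.2 ⟨Finset.mem_univ _, ?_⟩
    obtain ⟨c, hc, e⟩ := n.2
    rwa [show (⟨(n : G), core_le n.2⟩ : ↥(Subgroup.centralizer ({t} : Set G))) = c from Subtype.ext e.symm]
  · exact (Char.classFun_mul_comm (Char.isClassFunction_irr χ) _ _)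

/-- The principal block column of the involution. -/
theorem sum_sq_principal [Fintype (IrrCharacter G)] [DecidablePred (· ∈ principalBlock M G)]
    (hM : IsPModular 2 M) (ht : orderOf t = 2) (hclean : Clean t) :
    (Nat.card ↥(Cfsg.centralizerPPrimeCore 2 t) : ℂ) * ∑ χ ∈ Finset.univ.filter (· ∈ principalBlock M G),
      (χ : G → ℂ) t * (χ : G → ℂ) t = Nat.card ↥(Subgroup.centralizer ({t} : Set G)) := by
  classical
  letI := Fintype.ofFinite ↥(Cfsg.centralizerPPrimeCore 2 t)
  have hreal : ∀ χ : IrrCharacter G, conj ((χ : G → ℂ) t) = (χ : G → ℂ) t := fun χ => by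
    rw [← Char.irr_inv, CfsgLib.Invol.invol_inv ht]
  have h1 : ∀ χ : IrrCharacter G,
      ∑ n : ↥(Cfsg.centralizerPPrimeCore 2 t), (χ : G → ℂ) (t * n) * conj ((χ : G → ℂ) t) =
      if χ ∈ principalBlock M G then (Nat.card ↥(Cfsg.centralizerPPrimeCore 2 t) : ℂ) * ((χ : G → ℂ) t * (χ : G → ℂ) t) else 0 := by
    intro χ
    rw [← Finset.sum_mul, hreal]
    split_ifs with hχ
    · rw [Finset.sum_congr rfl fun (n : ↥(Cfsg.centralizerPPrimeCore 2 t)) _ => irr_mul_core hM ht hχ n.2, Finset.sum_const,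
        Finset.card_univ, ← Nat.card_eq_fintype_card, nsmul_eq_mul, mul_assoc]
    · rw [sum_core_eq_zero hM ht hclean hχ ⟨1, mul_one t, Commute.one_right t, ⟨1, by rw [ht, pow_one]⟩,
        by rw [orderOf_one]; norm_num⟩, zero_mul]
  have h2 : ∑ χ : IrrCharacter G, ∑ n : ↥(Cfsg.centralizerPPrimeCore 2 t), (χ : G → ℂ) (t * n) * conj ((χ : G → ℂ) t) =
      Nat.card ↥(Subgroup.centralizer ({t} : Set G)) := by
    rw [Finset.sum_comm, Finset.sum_congr rfl fun (n : ↥(Cfsg.centralizerPPrimeCore 2 t)) _ => Char.sum_irr_mul_conj (t * (n : G)) t]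
    rw [Finset.sum_eq_single (1 : ↥(Cfsg.centralizerPPrimeCore 2 t))]
    · rw [Subgroup.coe_one, mul_one, if_pos (IsConj.refl t)]
    · intro n _ hn
      refine if_neg fun e => hn ?_
      have hnC : Commute (n : G) t := Subgroup.mem_centralizer_singleton_iff.1 (core_le n.2)
      have ho : orderOf (t * (n : G)) = 2 := by
        obtain ⟨k, hk⟩ := isConj_iff.1 e.symm
        rw [← hk, orderOf_conj_eq, ht]
      have h2n : (n : G) ^ 2 = 1 := by
        have := pow_orderOf_eq_one (t * (n : G))
        rw [ho, hnC.symm.mul_pow] at this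
        rwa [show t ^ 2 = 1 from ht ▸ pow_orderOf_eq_one t, one_mul] at this
      have hd : orderOf (n : G) ∣ Nat.card ↥(Cfsg.centralizerPPrimeCore 2 t) := Subgroup.orderOf_dvd_natCard _ n.2
      have hd2 : orderOf (n : G) ∣ 2 := orderOf_dvd_of_pow_eq_one h2n
      rcases (Nat.dvd_prime Nat.prime_two).1 hd2 with h | h
      · exact Subtype.ext (orderOf_eq_one_iff.1 h)
      · rw [h, card_core] at hd
        exact absurd hd (CfsgLib.Coprime.pPrimeCore_not_dvd (G := ↥(Subgroup.centralizer ({t} : Set G))) Nat.prime_two)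
    · exact fun h => absurd (Finset.mem_univ _) h
  rw [← h2, Finset.sum_congr rfl fun χ _ => h1 χ, ← Finset.sum_filter, Finset.mul_sum]

end Section

end CfsgLib.ElemEight.CoreBlock
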