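import Cfsg.Agent.Lib.OddConseq.ElemEight.CoreBlock
import Cfsg.Agent.Lib.Block.KleinFour
import Cfsg.Agent.Lib.Block.Local
import Cfsg.Agent.Lib.Char.InducedSet

/-!
# Brauer's count against a strongly embedded subgroup with nontrivial core

Let `T` be the class function induced from the function twice the indicator of `K \ K1`. Its
constituents lie in the principal 2-block, and the sum over pairs of involutions gives
`49 n κ = 336`, where `κ = ∑ c v² / f`. The degrees of the characters negative at `t` are large as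
the core is not in their kernel, so `n` is less than 25.
-/

set_option autoImplicit false
set_option linter.unusedSectionVars false
set_option linter.style.haveILetI false

open Finset
open scoped ComplexConjugate

namespace CfsgLib.ElemEight

open Cfsg CfsgLib.Block

universe u

/-- The numerical data of the configuration. -/
structure CountData (G : Type u) [Group G] [Finite G] where
  t : G
  S : Subgroup G
  W : Subgroup G
  L : Subgroup G
  K : Subgroup G
  K1 : Subgroup G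
  n : ℕ
  e : ℕ
  q : ℕ
  ht : orderOf t = 2
  cardS : Nat.card ↥S = 8
  sqS : ∀ s ∈ S, s ^ 2 = 1
  W_ne : W ≠ ⊥
  hn : 25 ≤ n
  he : Odd e
  le_K : K1 ≤ K
  cardK1 : Nat.card ↥K = 2 * Nat.card ↥K1
  cardK : Nat.card ↥K = 8 * e * Nat.card ↥W
  cardG : Nat.card G = n * (7 * Nat.card ↥K)
  isConj : ∀ g : G, orderOf g = 2 → IsConj t g
  clean : ∀ s : G, orderOf s = 2 → CoreBlock.Clean s
  part : ∀ k ∈ K, k ∉ K1 → ∃ s, orderOf s = 2 ∧ IsPPart 2 k s ∧ Cfsg.centralizerPPrimeCore 2 s ≤ K1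
  cardC : Nat.card ↥(Subgroup.centralizer ({t} : Set G)) =
    8 * e * Nat.card ↥(Cfsg.centralizerPPrimeCore 2 t)
  q_pos : 0 < q
  invs : Nat.card {g : G // orderOf g = 2} = 7 * n * q
  pairs : Nat.card {p : G × G //
    orderOf p.1 = 2 ∧ orderOf p.2 = 2 ∧ p.1 * p.2 ∈ K ∧ p.1 * p.2 ∉ K1} = 24 * q ^ 2
  count_t : Nat.card {x : G // x * t * x⁻¹ ∈ K ∧ x * t * x⁻¹ ∉ K1} = 4 * Nat.card ↥K
  count_norm : Nat.card {p : G × G // (p.1 ∈ K ∧ p.1 ∉ K1) ∧
      p.2 * p.1 * p.2⁻¹ ∈ K ∧ p.2 * p.1 * p.2⁻¹ ∉ K1} =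
    Nat.card ↥K * (12 * Nat.card ↥W + 4 * e * Nat.card ↥W)
  le_L : W ≤ L
  cardL : Nat.card ↥L = 8 * Nat.card ↥W
  conj_L : ∀ g ∈ L, g ∉ W → ∃ x ∈ Cfsg.centralizerPPrimeCore 2 t, IsConj (t * x) g

section General

variable {G : Type u} [Group G] [Fintype G]

/-- Sums of a character over a subgroup are natural multiples of its order. -/
theorem exists_sum_subgroup (H : Subgroup G) [Fintype ↥H] (χ : IrrCharacter G) :
    ∃ a : ℕ, ∑ h : ↥H, (χ : G → ℂ) h = (a : ℂ) * Nat.card ↥H := by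
  obtain ⟨a, ha⟩ := Char.classInner_char_irr_nat
    (Char.isCharacter_comp (Char.isCharacter_irr χ) H.subtype) (oneChar ↥H)
  refine ⟨a, ?_⟩
  have : (Nat.card ↥H : ℂ) ≠ 0 := Nat.cast_ne_zero.2 Nat.card_pos.ne'
  simp only [classInner, oneChar, map_one, mul_one, Subgroup.coe_subtype] at ha
  rw [← ha]
  field_simp

open Classical in
/-- Sums over a subset of a subgroup. -/
theorem sum_subgroup_eq (H : Subgroup G) [Fintype ↥H] (F : G → ℂ) :
    ∑ h : ↥H, F h = ∑ g ∈ Finset.univ.filter (· ∈ H), F g :=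
  (Finset.sum_subtype (Finset.univ.filter (· ∈ H)) (fun x => by simp) F).symm

end General

namespace CountData

variable {G : Type u} [Group G] [Fintype G] [DecidableEq G] (D : CountData G)

open Classical in
/-- The support `K \ K1`. -/
noncomputable def supp : Finset G := Finset.univ.filter fun g => g ∈ D.K ∧ g ∉ D.K1

theorem mem_supp {g : G} : g ∈ D.supp ↔ g ∈ D.K ∧ g ∉ D.K1 := by simp [supp]

open Classical in
/-- The number of conjugators into the support. -/
noncomputable def num (g : G) : ℕ := (Finset.univ.filter fun x : G => x * g * x⁻¹ ∈ D.supp).card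

theorem num_conj (g h : G) : D.num (h * g * h⁻¹) = D.num g := by
  classical
  refine Finset.card_equiv (Equiv.mulRight h) fun x => ?_
  simp [mul_assoc]

/-- The induced function. -/
noncomputable def T (g : G) : ℂ := 2 / (Nat.card ↥D.K : ℂ) * (D.num g : ℂ)

theorem T_class : IsClassFunction G D.T := fun g h => by rw [T, T, num_conj]

theorem conj_T (g : G) : conj (D.T g) = D.T g := by
  rw [T, map_mul, map_div₀, map_natCast, map_natCast, Complex.conj_ofNat]

theorem sum_num_mul {F : G → ℂ} (hF : IsClassFunction G F) :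
    ∑ g : G, (D.num g : ℂ) * F g = (Nat.card G : ℂ) * ∑ k ∈ D.supp, F k := by
  classical
  have h : ∀ g : G, (D.num g : ℂ) * F g = ∑ x : G, if x * g * x⁻¹ ∈ D.supp then F g else 0 := by
    intro g
    rw [← Finset.sum_filter, Finset.sum_const, nsmul_eq_mul, num]
  rw [Finset.sum_congr rfl fun g _ => h g, Finset.sum_comm, Nat.card_eq_fintype_card, ← nsmul_eq_mul,
    ← Finset.card_univ, ← Finset.sum_const]
  refine Finset.sum_congr rfl fun x _ => ?_
  rw [← Finset.sum_filter]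
  refine Finset.sum_equiv (MulAut.conj x).toEquiv (fun g => by simp) fun g _ => ?_
  exact (hF g x).symm

theorem supp_sum (F : G → ℂ) [Fintype ↥D.K] [Fintype ↥D.K1] :
    ∑ k ∈ D.supp, F k = ∑ k : ↥D.K, F k - ∑ k : ↥D.K1, F k := by
  classical
  rw [sum_subgroup_eq, sum_subgroup_eq, supp]
  rw [eq_sub_iff_add_eq, ← Finset.sum_union (Finset.disjoint_left.2 fun a ha hb =>
    (Finset.mem_filter.1 ha).2.2 (Finset.mem_filter.1 hb).2)]
  refine Finset.sum_congr ?_ fun _ _ => rfl
  ext a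
  simp only [Finset.mem_union, Finset.mem_filter, Finset.mem_univ, true_and]
  exact ⟨fun h => h.elim (fun h => h.1) (fun h => D.le_K h),
    fun h => (em (a ∈ D.K1)).elim Or.inr fun h' => Or.inl ⟨h, h'⟩⟩

theorem exists_coef (χ : IrrCharacter G) : ∃ c : ℤ, classInner D.T (χ : G → ℂ) = (c : ℂ) := by
  classical
  letI := Fintype.ofFinite ↥D.K
  letI := Fintype.ofFinite ↥D.K1
  obtain ⟨a, ha⟩ := exists_sum_subgroup D.K χ
  obtain ⟨b, hb⟩ := exists_sum_subgroup D.K1 χ
  refine ⟨2 * a - b, ?_⟩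
  have h := D.sum_num_mul (F := fun g => conj ((χ : G → ℂ) g)) fun g x => by
    simp only; rw [Char.isClassFunction_irr χ g x]
  have h2 := congrArg conj (D.supp_sum (χ : G → ℂ))
  rw [map_sum, ha, hb] at h2
  simp only [classInner, T, mul_assoc, ← Finset.mul_sum]
  rw [h, h2, D.cardK1]
  have h1 : (Nat.card ↥D.K1 : ℂ) ≠ 0 := Nat.cast_ne_zero.2 Nat.card_pos.ne'
  have h0 : (Nat.card G : ℂ) ≠ 0 := Nat.cast_ne_zero.2 Nat.card_pos.ne'
  simp only [map_sub, map_mul, map_natCast]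
  push_cast
  field_simp

/-- The coefficient of a character in `T`. -/
noncomputable def c (χ : IrrCharacter G) : ℤ := (D.exists_coef χ).choose

theorem c_spec (χ : IrrCharacter G) : classInner D.T (χ : G → ℂ) = (D.c χ : ℂ) :=
  (D.exists_coef χ).choose_spec

theorem c_one : D.c (oneChar G) = 1 := by
  classical
  letI := Fintype.ofFinite ↥D.K
  letI := Fintype.ofFinite ↥D.K1
  have h := D.c_spec (oneChar G)
  have hs := D.sum_num_mul (F := fun _ => (1 : ℂ)) fun _ _ => rfl
  rw [D.supp_sum, Finset.sum_const, Finset.sum_const, Finset.card_univ, Finset.card_univ,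
    ← Nat.card_eq_fintype_card, ← Nat.card_eq_fintype_card, D.cardK1] at hs
  have e1 : ∀ g : G, conj ((oneChar G : G → ℂ) g) = 1 := fun g => map_one _
  simp only [classInner, T, mul_assoc, ← Finset.mul_sum, e1] at h
  rw [hs, D.cardK1] at h
  have h1 : (Nat.card ↥D.K1 : ℂ) ≠ 0 := Nat.cast_ne_zero.2 Nat.card_pos.ne'
  have h0 : (Nat.card G : ℂ) ≠ 0 := Nat.cast_ne_zero.2 Nat.card_pos.ne'
  have : ((D.c (oneChar G) : ℤ) : ℂ) = 1 := by
    rw [← h]
    simp only [nsmul_eq_mul, mul_one]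
    push_cast
    field_simp
    ring
  exact_mod_cast this

variable {M : Ideal AlgInt} [M.IsMaximal]

/-- The constituents of `T` lie in the principal block. -/
theorem mem_of_c_ne (hM : IsPModular 2 M) {χ : IrrCharacter G} (hc : D.c χ ≠ 0) :
    χ ∈ principalBlock M G := by
  classical
  by_contra hχ
  refine hc ?_
  have hp : Fact (Nat.Prime 2) := ⟨Nat.prime_two⟩
  choose f hf1 hf2 hf3 using fun k : ↥D.supp => D.part k (D.mem_supp.1 k.2).1 (D.mem_supp.1 k.2).2
  -- average over the cores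
  let X : G → Subgroup G := fun k => if h : k ∈ D.supp then Cfsg.centralizerPPrimeCore 2 (f ⟨k, h⟩) else ⊥
  have hX : ∀ k (h : k ∈ D.supp), X k = Cfsg.centralizerPPrimeCore 2 (f ⟨k, h⟩) := fun k h => dif_pos h
  have hshift : ∀ k (h : k ∈ D.supp) x, x ∈ X k → ∃ h' : k * x ∈ D.supp, f ⟨k * x, h'⟩ = f ⟨k, h⟩ := by
    intro k h x hx
    rw [hX k h] at hx
    have hxK1 := hf3 ⟨k, h⟩ hx
    have hmem : k * x ∈ D.supp := D.mem_supp.2
      ⟨mul_mem (D.mem_supp.1 h).1 (D.le_K hxK1), fun e => (D.mem_supp.1 h).2 (by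
        simpa using mul_mem e (inv_mem hxK1))⟩
    refine ⟨hmem, isPPart_unique Nat.prime_two (hf2 ⟨k * x, hmem⟩) ?_⟩
    obtain ⟨y, hy, hcy, hpow, hyo⟩ := hf2 ⟨k, h⟩
    have hcx : Commute (f ⟨k, h⟩) x :=
      (Subgroup.mem_centralizer_singleton_iff.1 (CoreBlock.core_le hx) : _).symm
    refine ⟨y * x, by rw [← mul_assoc, hy], hcy.mul_right hcx, hpow, ?_⟩
    -- `y * x` is odd: `x` lies in the normal odd core of the centralizer of the involution
    have hyC : y ∈ Subgroup.centralizer ({f ⟨k, h⟩} : Set G) :=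
      Subgroup.mem_centralizer_singleton_iff.2 hcy.symm.eq
    haveI := CfsgLib.Coprime.pPrimeCore_characteristic
      (G := ↥(Subgroup.centralizer ({f ⟨k, h⟩} : Set G))) 2
    obtain ⟨z, hz, hzx⟩ := hx
    intro hdiv
    have hzN : ((z : ↥(Subgroup.centralizer ({f ⟨k, h⟩} : Set G))) : ↥(Subgroup.centralizer ({f ⟨k, h⟩} : Set G)) ⧸
        Cfsg.pPrimeCore 2 ↥(Subgroup.centralizer ({f ⟨k, h⟩} : Set G))) = 1 :=
      (QuotientGroup.eq_one_iff z).2 hz
    have hodd := CfsgLib.Coprime.pPrimeCore_not_dvd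
      (G := ↥(Subgroup.centralizer ({f ⟨k, h⟩} : Set G))) Nat.prime_two
    have h1 := (Block.PrincipalCore.orderOf_mk_iff hodd ((⟨y, hyC⟩ : ↥(Subgroup.centralizer ({f ⟨k, h⟩} : Set G))) * z)).2 (by
      rw [← Subgroup.orderOf_coe, Subgroup.coe_mul]
      simpa [← hzx] using hdiv)
    rw [QuotientGroup.mk_mul, hzN, mul_one, Block.PrincipalCore.orderOf_mk_iff hodd,
      ← Subgroup.orderOf_coe] at h1
    exact hyo h1
  have key : ∑ k ∈ D.supp, (χ : G → ℂ) k = 0 := by
    have hb : ∑ k ∈ D.supp, (χ : G → ℂ) k =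
        ∑ k ∈ D.supp, (Nat.card ↥(X k) : ℂ)⁻¹ * ∑ x ∈ Finset.univ.filter (· ∈ X k), (χ : G → ℂ) (k * x) := by
      simp only [Finset.mul_sum]
      rw [Finset.sum_sigma' D.supp]
      have : ∑ k ∈ D.supp, (χ : G → ℂ) k =
          ∑ a ∈ D.supp.sigma fun k => Finset.univ.filter (· ∈ X k),
            (Nat.card ↥(X a.1) : ℂ)⁻¹ * (χ : G → ℂ) a.1 := by
        rw [Finset.sum_sigma]
        refine Finset.sum_congr rfl fun k _ => ?_
        simp only
        rw [Finset.sum_const, ← Fintype.card_subtype, ← Nat.card_eq_fintype_card, nsmul_eq_mul, ← mul_assoc,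
          mul_inv_cancel₀ (Nat.cast_ne_zero.2 Nat.card_pos.ne'), one_mul]
      rw [this]
      have hs : ∀ (k : G) (_ : k ∈ D.supp) (x : G), x ∈ X k → k * x ∈ D.supp ∧ X (k * x) = X k := by
        intro k h x hx
        obtain ⟨h', e⟩ := hshift k h x hx
        exact ⟨h', by rw [hX _ h', hX _ h, e]⟩
      refine Finset.sum_nbij' (fun a => ⟨a.1 * a.2, a.2⁻¹⟩) (fun a => ⟨a.1 * a.2, a.2⁻¹⟩)
        ?_ ?_ ?_ ?_ ?_
      · rintro ⟨k, x⟩ hkx
        simp only [Finset.mem_sigma, Finset.mem_filter, Finset.mem_univ, true_and, Finset.mem_coe] at hkx ⊢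
        obtain ⟨h1, h2⟩ := hs k hkx.1 x hkx.2
        exact ⟨h1, h2.symm ▸ inv_mem hkx.2⟩
      · rintro ⟨k, x⟩ hkx
        simp only [Finset.mem_sigma, Finset.mem_filter, Finset.mem_univ, true_and, Finset.mem_coe] at hkx ⊢
        obtain ⟨h1, h2⟩ := hs k hkx.1 x hkx.2
        exact ⟨h1, h2.symm ▸ inv_mem hkx.2⟩
      · rintro ⟨k, x⟩ _; simp
      · rintro ⟨k, x⟩ _; simp
      · rintro ⟨k, x⟩ hkx
        simp only [Finset.mem_sigma, Finset.mem_filter, Finset.mem_univ, true_and, Finset.mem_coe] at hkx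
        simp [(hs k hkx.1 x hkx.2).2]
    rw [hb]
    refine Finset.sum_eq_zero fun k hk => ?_
    rw [hX k hk]
    letI := Fintype.ofFinite ↥(Cfsg.centralizerPPrimeCore 2 (f ⟨k, hk⟩))
    rw [← sum_subgroup_eq _ (fun x => (χ : G → ℂ) (k * x)),
      CoreBlock.sum_core_eq_zero hM (hf1 ⟨k, hk⟩) (D.clean _ (hf1 ⟨k, hk⟩)) hχ (hf2 ⟨k, hk⟩), mul_zero]
  have h := D.sum_num_mul (F := fun g => conj ((χ : G → ℂ) g)) fun g x => by
    simp only; rw [Char.isClassFunction_irr χ g x]
  have hc0 := D.c_spec χ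
  simp only [classInner, T, mul_assoc, ← Finset.mul_sum] at hc0
  rw [h, ← map_sum, key, map_zero, mul_zero, mul_zero, mul_zero] at hc0
  exact_mod_cast hc0.symm

theorem expand [Fintype (IrrCharacter G)] (g : G) :
    D.T g = ∑ χ : IrrCharacter G, (D.c χ : ℂ) * (χ : G → ℂ) g := by
  conv_lhs => rw [Char.classFun_expand D.T_class]
  simp [D.c_spec]

theorem sum_c_sq [Fintype (IrrCharacter G)] :
    (D.e : ℂ) * ∑ χ : IrrCharacter G, (D.c χ : ℂ) * (D.c χ : ℂ) = 6 + 2 * (D.e : ℂ) := by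
  classical
  have hK : (Nat.card ↥D.K : ℂ) ≠ 0 := Nat.cast_ne_zero.2 Nat.card_pos.ne'
  have hG : (Nat.card G : ℂ) ≠ 0 := Nat.cast_ne_zero.2 Nat.card_pos.ne'
  have hnorm : classInner D.T D.T = ∑ χ : IrrCharacter G, (D.c χ : ℂ) * (D.c χ : ℂ) := by
    have h : ∀ g : G, D.T g * conj (D.T g) =
        ∑ χ : IrrCharacter G, (D.c χ : ℂ) * (D.T g * conj ((χ : G → ℂ) g)) := fun g => by
      conv_lhs => rw [D.expand g, map_sum, ← D.expand g, Finset.mul_sum]
      exact Finset.sum_congr rfl fun χ _ => by rw [map_mul, map_intCast]; ring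
    simp only [classInner]
    rw [Finset.sum_congr rfl fun g _ => h g, Finset.sum_comm, Finset.mul_sum]
    refine Finset.sum_congr rfl fun χ _ => ?_
    rw [← D.c_spec χ, classInner, ← Finset.mul_sum]
    ring
  have hcount : ∑ k ∈ D.supp, (D.num k : ℂ) =
      (Nat.card ↥D.K : ℂ) * (12 * Nat.card ↥D.W + 4 * D.e * Nat.card ↥D.W) := by
    have h1 : ∑ k ∈ D.supp, D.num k = Nat.card {p : G × G // (p.1 ∈ D.K ∧ p.1 ∉ D.K1) ∧
        p.2 * p.1 * p.2⁻¹ ∈ D.K ∧ p.2 * p.1 * p.2⁻¹ ∉ D.K1} := by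
      simp only [num]
      rw [← Finset.card_sigma, Nat.card_eq_fintype_card, Fintype.card_subtype]
      refine Finset.card_equiv (Equiv.sigmaEquivProd G G) fun a => ?_
      simp [mem_supp]
    rw [← Nat.cast_sum, h1, D.count_norm]
    push_cast; ring
  have hdir : classInner D.T D.T = 4 / (Nat.card ↥D.K : ℂ) ^ 2 * ∑ k ∈ D.supp, (D.num k : ℂ) := by
    have h := D.sum_num_mul (F := fun g => (D.num g : ℂ)) fun g x => by simp only [D.num_conj]
    simp only [classInner, D.conj_T]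
    have hg : ∀ g : G, D.T g * D.T g = (2 / (Nat.card ↥D.K : ℂ)) ^ 2 * ((D.num g : ℂ) * D.num g) :=
      fun g => by rw [T]; ring
    rw [Finset.sum_congr rfl fun g _ => hg g, ← Finset.mul_sum, h]
    field_simp
    ring
  rw [← hnorm, hdir, hcount, D.cardK]
  push_cast
  have hW : (Nat.card ↥D.W : ℂ) ≠ 0 := Nat.cast_ne_zero.2 Nat.card_pos.ne'
  have he : (D.e : ℂ) ≠ 0 := Nat.cast_ne_zero.2 (Nat.pos_iff_ne_zero.1 D.he.pos)
  field_simp
  ring

theorem sum_c_value [Fintype (IrrCharacter G)] :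
    ∑ χ : IrrCharacter G, (D.c χ : ℂ) * (χ : G → ℂ) D.t = 8 := by
  classical
  rw [← D.expand, T, num, show (Finset.univ.filter fun x : G => x * D.t * x⁻¹ ∈ D.supp).card =
    Nat.card {x : G // x * D.t * x⁻¹ ∈ D.K ∧ x * D.t * x⁻¹ ∉ D.K1} by
      rw [Nat.card_eq_fintype_card, Fintype.card_subtype]; simp [mem_supp], D.count_t]
  have hK : (Nat.card ↥D.K : ℂ) ≠ 0 := Nat.cast_ne_zero.2 Nat.card_pos.ne'
  push_cast
  field_simp
  ring

theorem order_formula [Fintype (IrrCharacter G)] :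
    ∑ χ : IrrCharacter G, (D.c χ : ℂ) * ((χ : G → ℂ) D.t * (χ : G → ℂ) D.t / (χ : G → ℂ) 1) =
      48 / (7 * (D.n : ℂ)) := by
  classical
  set I : Finset G := Finset.univ.filter (fun g => orderOf g = 2) with hI
  have hcardI : (I.card : ℂ) = 7 * D.n * D.q := by
    rw [hI, ← Fintype.card_subtype, ← Nat.card_eq_fintype_card, D.invs]; push_cast; ring
  have hiff : ∀ g : G, IsConj D.t g ↔ orderOf g = 2 := fun g => ⟨fun h => by
    obtain ⟨k, rfl⟩ := isConj_iff.1 h
    rw [orderOf_conj_eq, D.ht], D.isConj g⟩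
  have hclass : (Nat.card {x : G // IsConj D.t x} : ℂ) = I.card := by
    rw [hI, ← Fintype.card_subtype, ← Nat.card_eq_fintype_card,
      Nat.card_congr (Equiv.subtypeEquivRight hiff)]
  have hfib : ∀ F : G → ℂ, ∑ z : G, (Char.classConst D.t D.t z : ℂ) * F z =
      ∑ p ∈ I ×ˢ I, F (p.1 * p.2) := by
    intro F
    rw [← Finset.sum_fiberwise (I ×ˢ I) (fun p : G × G => p.1 * p.2)]
    refine Finset.sum_congr rfl fun z _ => ?_
    rw [Finset.sum_congr rfl (g := fun _ => F z) fun p hp => by rw [(Finset.mem_filter.1 hp).2],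
      Finset.sum_const, nsmul_eq_mul, Char.classConst, Nat.card_eq_fintype_card, Fintype.card_subtype]
    congr 3
    ext p
    simp [hI, hiff, and_assoc, -isConj_iff]
  have hchar : ∀ χ : IrrCharacter G, ∑ p ∈ I ×ˢ I, (χ : G → ℂ) (p.1 * p.2) =
      (I.card : ℂ) ^ 2 * ((χ : G → ℂ) D.t * (χ : G → ℂ) D.t / (χ : G → ℂ) 1) := by
    intro χ
    have h := Char.omega_mul χ D.t D.t
    rw [← Finset.sum_div, hfib] at h
    simp only [Char.omega, hclass] at h
    have h1 := Char.irr_one_ne_zero χ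
    field_simp at h ⊢
    linear_combination -h
  have hT : ∑ p ∈ I ×ˢ I, D.T (p.1 * p.2) =
      ∑ χ : IrrCharacter G, (D.c χ : ℂ) * ((I.card : ℂ) ^ 2 *
        ((χ : G → ℂ) D.t * (χ : G → ℂ) D.t / (χ : G → ℂ) 1)) := by
    simp only [D.expand]
    rw [Finset.sum_comm]
    exact Finset.sum_congr rfl fun χ _ => by rw [← Finset.mul_sum, hchar]
  have hnum : ∑ p ∈ I ×ˢ I, D.num (p.1 * p.2) = Nat.card G * (24 * D.q ^ 2) := by
    simp only [num, Finset.card_filter]
    rw [Finset.sum_comm, Nat.card_eq_fintype_card, ← Finset.card_univ, ← smul_eq_mul, ← Finset.sum_const]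
    refine Finset.sum_congr rfl fun x _ => ?_
    rw [← D.pairs, Nat.card_eq_fintype_card, Fintype.card_subtype, ← Finset.card_filter]
    refine Finset.card_equiv ((MulAut.conj x).toEquiv.prodCongr (MulAut.conj x).toEquiv) fun p => ?_
    have e : ∀ a : G, orderOf (x * (a * x⁻¹)) = orderOf a := fun a => by rw [← mul_assoc, orderOf_conj_eq]
    simp [hI, mem_supp, e, mul_assoc, and_assoc]
  simp only [T, ← Finset.mul_sum] at hT
  rw [← Nat.cast_sum, hnum, D.cardG] at hT
  simp only [← mul_assoc, mul_comm _ ((I.card : ℂ) ^ 2)] at hT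
  simp only [mul_assoc, ← Finset.mul_sum, hcardI] at hT
  have hK : (Nat.card ↥D.K : ℂ) ≠ 0 := Nat.cast_ne_zero.2 Nat.card_pos.ne'
  have hn : (D.n : ℂ) ≠ 0 := Nat.cast_ne_zero.2 (by have := D.hn; omega)
  have hq : (D.q : ℂ) ≠ 0 := Nat.cast_ne_zero.2 D.q_pos.ne'
  push_cast at hT
  field_simp at hT ⊢
  linear_combination -hT

/-- A character negative at the involution has large degree. -/
theorem degree_ge [IsSimpleGroup G] (hM : IsPModular 2 M) {χ : IrrCharacter G}
    (hχ : χ ∈ principalBlock M G) (hne : χ ≠ oneChar G) {v : ℤ} (hv : (χ : G → ℂ) D.t = (v : ℂ)) :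
    8 - 7 * v ≤ (charDegree (χ : G → ℂ) : ℤ) := by
  classical
  letI := Fintype.ofFinite ↥D.W
  letI := Fintype.ofFinite ↥D.L
  letI := Fintype.ofFinite ↥D.S
  obtain ⟨a, ha⟩ := exists_sum_subgroup D.L χ
  obtain ⟨b, hb⟩ := exists_sum_subgroup D.W χ
  obtain ⟨s, hs⟩ := exists_sum_subgroup D.S χ
  set f := charDegree (χ : G → ℂ) with hf
  have hf1 : (χ : G → ℂ) 1 = (f : ℂ) := (charDegree_eq χ).1
  -- the sum over `L`
  have hL : (a : ℤ) * 8 = b + 7 * v := by
    rw [sum_subgroup_eq] at ha hb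
    rw [← Finset.sum_filter_add_sum_filter_not _ (· ∈ D.W), Finset.filter_filter, Finset.filter_filter,
      Finset.filter_congr (q := (· ∈ D.W)) (fun g _ => ⟨fun h => h.2, fun h => ⟨D.le_L h, h⟩⟩), hb,
      Finset.sum_congr rfl (g := fun _ => (v : ℂ)) (fun g hg => ?_), Finset.sum_const, nsmul_eq_mul,
      D.cardL] at ha
    · have hc : (Finset.univ.filter fun g => g ∈ D.L ∧ g ∉ D.W).card = 7 * Nat.card ↥D.W := by
        have h := Finset.card_filter_add_card_filter_not
          (s := Finset.univ.filter (· ∈ D.L)) (p := (· ∈ D.W))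
        rw [Finset.filter_filter, Finset.filter_filter,
          Finset.filter_congr (q := (· ∈ D.W)) (fun g _ => ⟨fun h => h.2, fun h => ⟨D.le_L h, h⟩⟩),
          ← Fintype.card_subtype (fun g => g ∈ D.W), ← Fintype.card_subtype (fun g => g ∈ D.L),
          ← Nat.card_eq_fintype_card, ← Nat.card_eq_fintype_card] at h
        have := D.cardL
        omega
      rw [hc] at ha
      have hW : (Nat.card ↥D.W : ℂ) ≠ 0 := Nat.cast_ne_zero.2 Nat.card_pos.ne'
      have h' : (((a : ℤ) * 8 : ℤ) : ℂ) = (((b : ℤ) + 7 * v : ℤ) : ℂ) := by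
        refine mul_right_cancel₀ hW ?_
        push_cast at ha ⊢
        linear_combination -ha
      exact_mod_cast h'
    · obtain ⟨hgL, hgW⟩ := (Finset.mem_filter.1 hg).2
      obtain ⟨x, hx, hxg⟩ := D.conj_L g hgL hgW
      rw [← Char.classFun_isConj (Char.isClassFunction_irr χ) hxg, CoreBlock.irr_mul_core hM D.ht hχ hx, hv]
  -- the sum over `S`
  have hS : (s : ℤ) * 8 = f + 7 * v := by
    rw [← Finset.add_sum_erase _ _ (Finset.mem_univ (1 : ↥D.S)), Subgroup.coe_one, hf1,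
      Finset.sum_congr rfl (g := fun _ => (v : ℂ)) (fun g hg => ?_), Finset.sum_const,
      Finset.card_erase_of_mem (Finset.mem_univ _), Finset.card_univ, ← Nat.card_eq_fintype_card,
      D.cardS] at hs
    · have h' : (((s : ℤ) * 8 : ℤ) : ℂ) = (((f : ℤ) + 7 * v : ℤ) : ℂ) := by
        push_cast
        rw [nsmul_eq_mul] at hs
        push_cast at hs
        linear_combination -hs
      exact_mod_cast h'
    · have hg1 : (g : G) ≠ 1 := fun e => (Finset.mem_erase.1 hg).1 (Subtype.ext e)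
      rw [← Char.classFun_isConj (Char.isClassFunction_irr χ)
        (D.isConj g (orderOf_eq_prime (hp := ⟨Nat.prime_two⟩) (D.sqS _ g.2) hg1)), hv]
  -- `W` is not in the kernel
  have hbf : b < f := by
    have hre : ∀ w : G, ((χ : G → ℂ) w).re ≤ f := fun w =>
      (Complex.re_le_norm _).trans (Char.norm_char_le_degree (Char.isCharacter_irr χ) hf1 w)
    have hsum := congrArg Complex.re hb
    rw [Complex.re_sum] at hsum
    simp only [Complex.mul_re, Complex.natCast_re, Complex.natCast_im, mul_zero, sub_zero] at hsum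
    have hle : ∀ w : ↥D.W, w ∈ (Finset.univ : Finset ↥D.W) → ((χ : G → ℂ) (w : G)).re ≤ (f : ℝ) :=
      fun w _ => hre w
    have h2 := Finset.sum_le_sum hle
    rw [hsum, Finset.sum_const, Finset.card_univ, ← Nat.card_eq_fintype_card, nsmul_eq_mul,
      mul_comm] at h2
    have hpos : (0 : ℝ) < Nat.card ↥D.W := Nat.cast_pos.2 Nat.card_pos
    have hle' : b ≤ f := by exact_mod_cast le_of_mul_le_mul_left h2 hpos
    refine lt_of_le_of_ne hle' fun e => hne ?_
    obtain ⟨N, hN, hmem⟩ := CfsgLib.Invol.exists_charKernel χ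
    have hWN : D.W ≤ N := fun w hw => (hmem w).2 (by
      have hall := (Finset.sum_eq_sum_iff_of_le hle).1 (by
        rw [hsum, Finset.sum_const, Finset.card_univ, ← Nat.card_eq_fintype_card, nsmul_eq_mul, e,
          mul_comm]) ⟨w, hw⟩ (Finset.mem_univ _)
      have hn := Char.norm_char_le_degree (Char.isCharacter_irr χ) hf1 w
      have him : ((χ : G → ℂ) w).im = 0 := by
        have hsq := Complex.normSq_apply ((χ : G → ℂ) w)
        rw [Complex.normSq_eq_norm_sq] at hsq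
        nlinarith [norm_nonneg ((χ : G → ℂ) w), hall]
      rw [hf1]
      exact Complex.ext (by simpa using hall) (by simpa using him))
    refine CfsgLib.Invol.eq_oneChar_of_constant χ fun g => (hmem g).1 ?_
    rcases IsSimpleGroup.eq_bot_or_eq_top_of_normal N hN with h | h
    · exact absurd (le_bot_iff.1 (h ▸ hWN)) D.W_ne
    · exact h ▸ Subgroup.mem_top g
  omega

theorem contradiction [IsSimpleGroup G] (D : CountData G) : False := by
  classical
  obtain ⟨M, hM⟩ := exists_pModular (p := 2) Nat.prime_two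
  haveI := hM.2.1
  letI := Fintype.ofFinite (IrrCharacter G)
  choose v hv using fun χ : IrrCharacter G =>
    exists_int_at_involution χ (v := D.t) (D.ht ▸ pow_orderOf_eq_one D.t)
  obtain ⟨P, hP⟩ : ∃ P, P = (Finset.univ.filter (· ∈ principalBlock M G)).erase (oneChar G) := ⟨_, rfl⟩
  have hPmem : ∀ χ, χ ∈ P ↔ χ ≠ oneChar G ∧ χ ∈ principalBlock M G := fun χ => by simp [hP]
  have hsplit : ∀ F : IrrCharacter G → ℂ,
      (∀ χ, χ ∉ principalBlock M G → F χ = 0) → ∑ χ, F χ = F (oneChar G) + ∑ χ ∈ P, F χ := by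
    intro F hF
    rw [hP, Finset.add_sum_erase _ _ (Finset.mem_filter.2 ⟨Finset.mem_univ _, one_mem_principalBlock⟩)]
    exact (Finset.sum_subset (Finset.subset_univ _) fun χ _ hχ => hF χ (by simpa using hχ)).symm
  have hout : ∀ χ, χ ∉ principalBlock M G → D.c χ = 0 := fun χ hχ =>
    by_contra fun h => hχ (D.mem_of_c_ne hM h)
  have hv1 : v (oneChar G) = 1 := by
    have := (hv (oneChar G)).1
    simp only [oneChar] at this
    exact_mod_cast this.symm
  have hval : ∀ χ : IrrCharacter G, (χ : G → ℂ) D.t = (v χ : ℂ) := fun χ => (hv χ).1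
  obtain ⟨deg, hdeg⟩ : ∃ deg : IrrCharacter G → ℕ, deg = fun χ : IrrCharacter G => charDegree (χ : G → ℂ) := ⟨_, rfl⟩
  have hf : ∀ χ : IrrCharacter G, (χ : G → ℂ) 1 = (deg χ : ℂ) := fun χ => by rw [hdeg]; exact (charDegree_eq χ).1
  have hf0 : ∀ χ, 0 < deg χ := fun χ => by rw [hdeg]; exact Nat.pos_of_ne_zero (charDegree_eq χ).2
  have hge : ∀ χ ∈ P, 8 - 7 * v χ ≤ (deg χ : ℤ) := fun χ hχ => by
    rw [hdeg]; exact D.degree_ge hM ((hPmem χ).1 hχ).2 ((hPmem χ).1 hχ).1 (hval χ)
  -- the three sums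
  have hcv : ∑ χ ∈ P, D.c χ * v χ = 7 := by
    have h := D.sum_c_value
    rw [hsplit _ fun χ hχ => by rw [hout χ hχ]; simp, D.c_one] at h
    simp only [hval, hv1] at h
    have h' : ((∑ χ ∈ P, D.c χ * v χ : ℤ) : ℂ) = ((7 : ℤ) : ℂ) := by
      push_cast at h ⊢
      linear_combination h
    exact_mod_cast h'
  have hcc : (D.e : ℤ) * ∑ χ ∈ P, D.c χ * D.c χ = 6 + D.e := by
    have h := D.sum_c_sq
    rw [hsplit _ fun χ hχ => by rw [hout χ hχ]; simp, D.c_one] at h
    have h' : (((D.e : ℤ) * ∑ χ ∈ P, D.c χ * D.c χ : ℤ) : ℂ) = ((6 + D.e : ℤ) : ℂ) := by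
      push_cast at h ⊢
      linear_combination h
    exact_mod_cast h'
  have hvv : ∑ χ ∈ P, v χ * v χ = 8 * (D.e : ℤ) - 1 := by
    have h := CoreBlock.sum_sq_principal hM D.ht (D.clean _ D.ht)
    rw [D.cardC, ← Finset.add_sum_erase _ _ (Finset.mem_filter.2
      ⟨Finset.mem_univ (oneChar G), one_mem_principalBlock⟩), ← hP] at h
    simp only [hval, hv1] at h
    have hX : (Nat.card ↥(Cfsg.centralizerPPrimeCore 2 D.t) : ℂ) ≠ 0 :=
      Nat.cast_ne_zero.2 Nat.card_pos.ne'
    have h2 : 1 + ∑ χ ∈ P, (v χ : ℂ) * (v χ : ℂ) = 8 * (D.e : ℂ) := by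
      refine mul_left_cancel₀ hX ?_
      push_cast at h ⊢
      linear_combination h
    have h' : ((∑ χ ∈ P, v χ * v χ : ℤ) : ℂ) = ((8 * (D.e : ℤ) - 1 : ℤ) : ℂ) := by
      push_cast
      linear_combination h2
    exact_mod_cast h'
  have hord : 1 + ∑ χ ∈ P, (D.c χ : ℝ) * ((v χ : ℝ) * v χ / deg χ) = 48 / (7 * (D.n : ℝ)) := by
    have h := D.order_formula
    rw [hsplit _ fun χ hχ => by rw [hout χ hχ]; simp, D.c_one] at h
    simp only [hval, hf, hv1] at h
    have hd1 : deg (oneChar G) = 1 := by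
      have := hf (oneChar G)
      simp only [oneChar] at this
      exact_mod_cast this.symm
    rw [hd1] at h
    have h' : ((1 + ∑ χ ∈ P, (D.c χ : ℝ) * ((v χ : ℝ) * v χ / deg χ) : ℝ) : ℂ) =
        ((48 / (7 * (D.n : ℝ)) : ℝ) : ℂ) := by
      push_cast at h ⊢
      linear_combination h
    exact_mod_cast h'
  have hn : (48 : ℝ) / (7 * (D.n : ℝ)) ≤ 48 / 175 := by
    have : (25 : ℝ) ≤ D.n := by exact_mod_cast D.hn
    exact div_le_div_of_nonneg_left (by norm_num) (by norm_num) (by linarith)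
  -- the two cases
  have he : D.e = 1 ∨ D.e = 3 := by
    have hd : (D.e : ℤ) ∣ 6 := ⟨∑ χ ∈ P, D.c χ * D.c χ - 1, by linear_combination -hcc⟩
    have hd' : D.e ∣ 6 := by exact_mod_cast hd
    have hle := Nat.le_of_dvd (by norm_num) hd'
    obtain ⟨k, hk⟩ := D.he
    interval_cases he : D.e <;> omega
  rcases he with he | he <;> rw [he] at hcc hvv <;> norm_num at hcc hvv
  · -- no element of order three
    have heq : ∀ χ ∈ P, D.c χ = v χ := by
      have h0 : ∑ χ ∈ P, (D.c χ - v χ) * (D.c χ - v χ) = 0 := by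
        rw [Finset.sum_congr rfl (g := fun χ => D.c χ * D.c χ - 2 * (D.c χ * v χ) + v χ * v χ)
          fun χ _ => by ring, Finset.sum_add_distrib, Finset.sum_sub_distrib, ← Finset.mul_sum, hcc, hcv, hvv]
        norm_num
      intro χ hχ
      have := (Finset.sum_eq_zero_iff_of_nonneg fun χ _ => mul_self_nonneg _).1 h0 χ hχ
      simpa [sub_eq_zero] using this
    have hterm : ∀ χ ∈ P, -((v χ : ℝ) * v χ / 11) ≤ (D.c χ : ℝ) * ((v χ : ℝ) * v χ / deg χ) := by
      intro χ hχ
      rw [heq χ hχ]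
      have h7 : v χ * v χ ≤ 7 := hvv ▸ Finset.single_le_sum (f := fun χ => v χ * v χ)
        (fun χ _ => mul_self_nonneg _) hχ
      have hd := hge χ hχ
      have hd' : (8 : ℝ) - 7 * v χ ≤ deg χ := by exact_mod_cast hd
      have hpos : (0 : ℝ) < deg χ := by exact_mod_cast hf0 χ
      rw [← neg_div, mul_div_assoc', div_le_div_iff₀ (by norm_num) hpos]
      have h1 : v χ ≤ 2 := by nlinarith
      have h2 : -2 ≤ v χ := by nlinarith
      have hw : (11 : ℝ) * (-(v χ : ℝ)) ≤ deg χ ∨ 0 ≤ v χ := by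
        interval_cases hvx : v χ <;> first | (left; push_cast at hd' ⊢; linarith) | (right; norm_num)
      have hsq : (0 : ℝ) ≤ (v χ : ℝ) * v χ := mul_self_nonneg _
      rcases hw with hw | hw
      · nlinarith
      · have : (0 : ℝ) ≤ v χ := by exact_mod_cast hw
        nlinarith
    have hsum := Finset.sum_le_sum hterm
    rw [Finset.sum_neg_distrib, ← Finset.sum_div] at hsum
    have hvvR : ∑ χ ∈ P, (v χ : ℝ) * v χ = 7 := by exact_mod_cast hvv
    rw [hvvR] at hsum
    linarith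
  · -- an element of order three
    have hcc3 : ∑ χ ∈ P, D.c χ * D.c χ = 3 := by linarith
    obtain ⟨Q, hQ⟩ : ∃ Q, Q = P.filter (fun χ => D.c χ ≠ 0) := ⟨_, rfl⟩
    have hQP : Q ⊆ P := hQ ▸ Finset.filter_subset _ _
    have hQc : ∀ χ ∈ Q, D.c χ * D.c χ = 1 := by
      intro χ hχ
      have h3 : D.c χ * D.c χ ≤ 3 := hcc3 ▸ Finset.single_le_sum (f := fun χ => D.c χ * D.c χ)
        (fun χ _ => mul_self_nonneg _) (hQP hχ)
      have hne : D.c χ ≠ 0 := (Finset.mem_filter.1 (show χ ∈ P.filter (fun χ => D.c χ ≠ 0) by rwa [← hQ])).2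
      have h1 : D.c χ ≤ 1 := by nlinarith
      have h2 : -1 ≤ D.c χ := by nlinarith
      interval_cases hcx : D.c χ <;> simp_all
    have hQ3 : (Q.card : ℤ) = 3 := by
      have h : ∑ χ ∈ Q, D.c χ * D.c χ = 3 := by
        rw [← hcc3]
        exact Finset.sum_subset hQP fun χ hχ hn => by
          simp only [hQ, Finset.mem_filter, hχ, true_and, ne_eq, not_not] at hn
          simp [hn]
      rw [Finset.sum_congr rfl hQc, Finset.sum_const] at h
      simpa using h
    obtain ⟨w, hw⟩ : ∃ w : IrrCharacter G → ℤ, w = fun χ => D.c χ * v χ := ⟨_, rfl⟩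
    have hw7 : ∑ χ ∈ Q, w χ = 7 := by
      rw [← hcv, hw]
      exact Finset.sum_subset hQP fun χ hχ hn => by
        simp only [hQ, Finset.mem_filter, hχ, true_and, ne_eq, not_not] at hn
        simp [hn]
    have hw23 : ∑ χ ∈ Q, w χ * w χ ≤ 23 := by
      rw [← hvv, Finset.sum_congr rfl (g := fun χ => v χ * v χ) fun χ hχ => by
        rw [hw]; linear_combination (v χ * v χ) * hQc χ hχ]
      exact Finset.sum_le_sum_of_subset_of_nonneg hQP fun χ _ _ => mul_self_nonneg _
    have hrange : ∀ χ ∈ Q, 1 ≤ w χ ∧ w χ ≤ 4 := by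
      intro χ hχ
      have hcs := sq_sum_le_card_mul_sum_sq (s := Q.erase χ) (f := w)
      have hc2 : ((Q.erase χ).card : ℤ) = 2 := by
        rw [Finset.card_erase_of_mem hχ]; omega
      rw [hc2, Finset.sum_erase_eq_sub hχ, Finset.sum_erase_eq_sub hχ, hw7] at hcs
      have hss : ∑ x ∈ Q, w x ^ 2 ≤ 23 := by simpa [sq] using hw23
      constructor <;> nlinarith
    have hterm : ∀ χ ∈ Q, -((17 * (w χ : ℝ) - 8) / 135) ≤
        (D.c χ : ℝ) * ((v χ : ℝ) * v χ / deg χ) := by
      intro χ hχ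
      obtain ⟨hw1, hw4⟩ := hrange χ hχ
      have hw1' : (1 : ℝ) ≤ w χ := by exact_mod_cast hw1
      have hpos : (0 : ℝ) < deg χ := by exact_mod_cast hf0 χ
      have hc1 : D.c χ = 1 ∨ D.c χ = -1 := mul_self_eq_one_iff.1 (hQc χ hχ)
      rcases hc1 with hc | hc
      · rw [hc]
        have : (0 : ℝ) ≤ (v χ : ℝ) * v χ / deg χ := div_nonneg (mul_self_nonneg _) hpos.le
        push_cast
        linarith
      · have hvw : v χ = - w χ := by rw [hw]; simp [hc]
        have hd := hge χ (hQP hχ)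
        rw [hvw] at hd
        have hd' : 8 + 7 * (w χ : ℝ) ≤ deg χ := by
          have : 8 + 7 * w χ ≤ (deg χ : ℤ) := by linarith
          exact_mod_cast this
        rw [hc, hvw]
        push_cast
        rw [neg_mul, one_mul, neg_le_neg_iff, div_le_div_iff₀ hpos (by norm_num)]
        have hk : (-(w χ : ℝ)) * -(w χ : ℝ) * 135 ≤ (17 * (w χ : ℝ) - 8) * (8 + 7 * (w χ : ℝ)) := by
          interval_cases hwx : w χ <;> norm_num
        refine hk.trans (mul_le_mul_of_nonneg_left hd' (by linarith))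
    have hsum := Finset.sum_le_sum hterm
    rw [Finset.sum_neg_distrib, ← Finset.sum_div, Finset.sum_sub_distrib, ← Finset.mul_sum,
      Finset.sum_const, nsmul_eq_mul] at hsum
    have hw7' : ∑ χ ∈ Q, (w χ : ℝ) = 7 := by exact_mod_cast hw7
    have hQ3' : (Q.card : ℝ) = 3 := by exact_mod_cast hQ3
    rw [hw7', hQ3', Finset.sum_subset hQP (fun χ hχ hn => by
      simp only [hQ, Finset.mem_filter, hχ, true_and, ne_eq, not_not] at hn
      simp [hn])] at hsum
    linarith

end CountData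

end CfsgLib.ElemEight
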