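import Cfsg.Agent.Lib.OddConseq.TwoGenCoreEmbedded
import Cfsg.Agent.Lib.OddConseq.ElemEight.CoreCount
import Cfsg.Agent.Lib.Invol.StronglyEmbeddedOrbits
import Cfsg.Agent.Lib.PGroup.CentralizerCount
import Mathlib.GroupTheory.Transfer

/-!
# The signalizer closure is trivial for an elementary Sylow 2-subgroup of order eight

If `W` is an odd nontrivial subgroup normalized by `N(S)` that contains the cores of the involution
centralizers, then `M = W N(S)` is strongly embedded and gives the data of `CountData`, which is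
contradictory.
-/

set_option autoImplicit false
set_option linter.unusedSectionVars false
set_option linter.style.haveILetI false

namespace CfsgLib.ElemEight

open Subgroup

universe u

/-- An odd subgroup above the cores of the involution centralizers of `S`. -/
structure Setup (G : Type u) [Group G] [Finite G] where
  S : Sylow 2 G
  hS : Cfsg.IsElementaryAbelian 2 (S : Subgroup G)
  hS8 : Nat.card ↥(S : Subgroup G) = 8
  W : Subgroup G
  odd : ¬ 2 ∣ Nat.card ↥W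
  ne : W ≠ ⊥
  norm : normalizer ((S : Subgroup G) : Set G) ≤ normalizer (W : Set G)
  theta_le : ∀ t ∈ (S : Subgroup G), t ≠ 1 → Cfsg.centralizerPPrimeCore 2 t ≤ W
  solvable : ∀ t : G, orderOf t = 2 → Group.IsSolvable ↥(centralizer ({t} : Set G))

theorem clean_of_solvable {G : Type u} [Group G] [Finite G] {t : G}
    (h : Group.IsSolvable ↥(centralizer ({t} : Set G))) : CoreBlock.Clean t := by
  haveI := h
  haveI := CfsgLib.Coprime.pPrimeCore_characteristic (G := ↥(centralizer ({t} : Set G))) 2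
  haveI : Group.IsSolvable
      (↥(centralizer ({t} : Set G)) ⧸ Cfsg.oddCore ↥(centralizer ({t} : Set G))) :=
    Group.isSolvable_of_surjective (QuotientGroup.mk'_surjective _)
  exact CfsgLib.CoreUnique.centralizer_pCore_le
    (fun ⟨K, _, hK⟩ => CfsgLib.Coprime.not_isSolvable_of_isQuasisimple hK inferInstance)
    (CfsgLib.Coprime.pPrimeCore_quotient_eq_bot Nat.prime_two)

section General

variable {G : Type u} [Group G] [Finite G]

theorem mem_split {A W : Subgroup G} (h : A ≤ normalizer (W : Set G)) {g : G} (hg : g ∈ W ⊔ A) :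
    ∃ w ∈ W, ∃ a ∈ A, g = w * a := by
  rw [sup_comm, ← SetLike.mem_coe, coe_mul_of_left_le_normalizer_right A W h] at hg
  obtain ⟨a, ha, w, hw, rfl⟩ := hg
  exact ⟨a * w * a⁻¹, (mem_normalizer_iff.1 (h ha) w).1 hw, a, ha, by group⟩

theorem card_sup_mul {A W : Subgroup G} (h : A ≤ normalizer (W : Set G)) :
    Nat.card ↥(A ⊔ W) * Nat.card ↥(A ⊓ W) = Nat.card ↥A * Nat.card ↥W := by
  haveI : (W.subgroupOf (normalizer (W : Set G))).Normal :=
    (normal_subgroupOf_iff_le_normalizer le_normalizer).2 le_rfl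
  have h1 := CfsgLib.PGroup.card_sup_mul_card_inf (A.subgroupOf (normalizer (W : Set G)))
    (W.subgroupOf (normalizer (W : Set G)))
  have e : A.subgroupOf (normalizer (W : Set G)) ⊓ W.subgroupOf (normalizer (W : Set G)) =
      (A ⊓ W).subgroupOf (normalizer (W : Set G)) := (Subgroup.comap_inf _ _ _).symm
  rwa [← subgroupOf_sup h le_normalizer, e,
    Nat.card_congr (subgroupOfEquivOfLe (sup_le h le_normalizer)).toEquiv,
    Nat.card_congr (subgroupOfEquivOfLe (inf_le_left.trans h)).toEquiv,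
    Nat.card_congr (subgroupOfEquivOfLe h).toEquiv,
    Nat.card_congr (subgroupOfEquivOfLe (le_normalizer (H := W))).toEquiv] at h1

/-- An involution in the coset `s W` is conjugate to `s` under `W`. -/
theorem exists_conj_of_coset {W : Subgroup G} (hW : ¬ 2 ∣ Nat.card ↥W) {s z : G} (hs : orderOf s = 2)
    (hz : orderOf z = 2) (h : s * z ∈ W) : ∃ a ∈ W, a * s * a⁻¹ = z := by
  obtain ⟨w, hw⟩ : ∃ w, w = s * z := ⟨_, rfl⟩
  have hodd : ¬ 2 ∣ orderOf w := fun hd => hW (hd.trans (Subgroup.orderOf_dvd_natCard W (hw ▸ h)))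
  obtain ⟨k, hk⟩ : ∃ k, orderOf w = 2 * k + 1 := ⟨orderOf w / 2, by omega⟩
  have hinv : s * w * s⁻¹ = w⁻¹ := hw ▸ CfsgLib.Invol.invol_conj_mul hs hz
  have hp : ∀ j : ℕ, s * w ^ j = (w ^ j)⁻¹ * s := by
    intro j
    rw [← inv_pow, ← hinv, conj_pow]
    group
  refine ⟨(w ^ (k + 1))⁻¹, inv_mem (pow_mem (hw ▸ h) _), ?_⟩
  calc (w ^ (k + 1))⁻¹ * s * (w ^ (k + 1))⁻¹⁻¹ = ((w ^ (k + 1))⁻¹ * s) * w ^ (k + 1) := by group
    _ = s * (w ^ (k + 1) * w ^ (k + 1)) := by rw [← hp, mul_assoc]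
    _ = z := by
      rw [← pow_add, show k + 1 + (k + 1) = orderOf w + 1 by omega, pow_add, pow_orderOf_eq_one, one_mul,
        pow_one, hw, ← mul_assoc, CfsgLib.Invol.invol_mul_self hs, one_mul]

end General

namespace Setup

variable {G : Type u} [Group G] [Finite G] (P : Setup G)

/-- The strongly embedded subgroup. -/
def M : Subgroup G := P.W ⊔ normalizer ((P.S : Subgroup G) : Set G)

/-- The subgroup `W S`. -/
def L : Subgroup G := P.W ⊔ (P.S : Subgroup G)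

theorem S_le_NW : (P.S : Subgroup G) ≤ normalizer (P.W : Set G) := le_normalizer.trans P.norm

theorem M_le_NW : P.M ≤ normalizer (P.W : Set G) := sup_le le_normalizer P.norm

theorem W_le_M : P.W ≤ P.M := le_sup_left

theorem N_le_M : normalizer ((P.S : Subgroup G) : Set G) ≤ P.M := le_sup_right

theorem S_le_M : (P.S : Subgroup G) ≤ P.M := le_normalizer.trans P.N_le_M

theorem conj_W {g : G} (hg : g ∈ P.M) {w : G} (hw : w ∈ P.W) : g * w * g⁻¹ ∈ P.W :=
  (mem_normalizer_iff.1 (P.M_le_NW hg) w).1 hw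

theorem comm {a b : G} (ha : a ∈ (P.S : Subgroup G)) (hb : b ∈ (P.S : Subgroup G)) : a * b = b * a :=
  CfsgLib.EABasic.comm_of_isElementaryAbelian P.hS ha hb

theorem sq {s : G} (hs : s ∈ (P.S : Subgroup G)) : s * s = 1 := by rw [← pow_two]; exact P.hS.2 s hs

theorem inv_eq {s : G} (hs : s ∈ (P.S : Subgroup G)) : s⁻¹ = s := inv_eq_of_mul_eq_one_right (P.sq hs)

theorem order_two {s : G} (hs : s ∈ (P.S : Subgroup G)) (h1 : s ≠ 1) : orderOf s = 2 :=
  orderOf_eq_prime (hp := ⟨Nat.prime_two⟩) (P.hS.2 s hs) h1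

theorem eq_one_of_mem_W {s : G} (hs : s ∈ (P.S : Subgroup G)) (hw : s ∈ P.W) : s = 1 := by
  by_contra h1
  exact P.odd ((P.order_two hs h1) ▸ Subgroup.orderOf_dvd_natCard P.W hw)

theorem eq_of_mul_mem_W {r s : G} (hr : r ∈ (P.S : Subgroup G)) (hs : s ∈ (P.S : Subgroup G))
    (h : r * s ∈ P.W) : r = s := by
  rw [mul_eq_one_iff_eq_inv.1 (P.eq_one_of_mem_W (mul_mem hr hs) h), P.inv_eq hs]

/-- Every element of `L` has a unique part in `S`. -/
theorem mem_L {g : G} (hg : g ∈ P.L) : ∃ s ∈ (P.S : Subgroup G), s * g ∈ P.W := by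
  obtain ⟨w, hw, s, hs, rfl⟩ := mem_split P.S_le_NW hg
  refine ⟨s, hs, ?_⟩
  have h := P.conj_W (P.S_le_M hs) hw
  rw [P.inv_eq hs] at h
  rwa [← mul_assoc]

theorem mem_L_of_mul {g s : G} (hs : s ∈ (P.S : Subgroup G)) (h : s * g ∈ P.W) : g ∈ P.L := by
  have := mul_mem (show s ∈ P.L from le_sup_right (a := P.W) hs) (le_sup_left (b := (P.S : Subgroup G)) h)
  rwa [← mul_assoc, P.sq hs, one_mul] at this

theorem invol_mem_M {x : G} (hx : x ∈ P.M) (hxo : orderOf x = 2) :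
    ∃ s ∈ (P.S : Subgroup G), s ≠ 1 ∧ ∃ a ∈ P.W, a * s * a⁻¹ = x := by
  haveI : Fact (Nat.Prime 2) := ⟨Nat.prime_two⟩
  obtain ⟨m, hm⟩ := CfsgLib.Invol.exists_conj_le_sylow (Q := zpowers (⟨x, hx⟩ : P.M))
    (IsPGroup.of_card (n := 1) (by rw [Nat.card_zpowers, ← Subgroup.orderOf_coe, hxo, pow_one]))
    (P.S.subtype P.S_le_M)
  have hms : (m : G) * x * (m : G)⁻¹ ∈ (P.S : Subgroup G) := hm _ (mem_zpowers _)
  obtain ⟨w, hw, h, hh, he⟩ := mem_split P.norm (show (m : G) ∈ P.W ⊔ _ from m.2)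
  obtain ⟨r, hr⟩ : ∃ r, r = (m : G) * x * (m : G)⁻¹ := ⟨_, rfl⟩
  rw [← hr] at hms
  refine ⟨h⁻¹ * r * h, ?_, ?_, h⁻¹ * w⁻¹ * h, ?_, ?_⟩
  · have := (mem_normalizer_iff.1 (inv_mem hh) r).1 hms
    rwa [inv_inv] at this
  · intro e
    have : r = 1 := by
      have := congrArg (fun y => h * y * h⁻¹) e
      simpa [mul_assoc] using this
    rw [hr] at this
    have := CfsgLib.Invol.invol_conj hxo (m : G)
    simp_all
  · have := P.conj_W (P.N_le_M (inv_mem hh)) (inv_mem hw)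
    rwa [inv_inv] at this
  · rw [hr, he]; group

variable [IsSimpleGroup G]

theorem M_ne_top : P.M ≠ ⊤ := by
  intro h
  haveI : P.W.Normal := normalizer_eq_top_iff.1 (eq_top_iff.2 (h.ge.trans P.M_le_NW))
  rcases IsSimpleGroup.eq_bot_or_eq_top_of_normal P.W inferInstance with e | e
  · exact P.ne e
  · refine P.odd ?_
    rw [e, card_top]
    exact (show 2 ∣ 8 by norm_num).trans (P.hS8 ▸ card_subgroup_dvd_card _)

/-- The centralizer of an involution of `S`: the Sylow subgroup is normal modulo the core. -/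
theorem core_sup_normal {t : G} (htS : t ∈ (P.S : Subgroup G)) (ht1 : t ≠ 1) :
    (∀ c ∈ centralizer ({t} : Set G), ∀ s ∈ (P.S : Subgroup G),
      c * s * c⁻¹ ∈ Cfsg.centralizerPPrimeCore 2 t ⊔ (P.S : Subgroup G)) ∧
    ∀ c ∈ centralizer ({t} : Set G),
      (∀ s ∈ (P.S : Subgroup G), c * s * c⁻¹ * s⁻¹ ∈ Cfsg.centralizerPPrimeCore 2 t) →
      c ∈ Cfsg.centralizerPPrimeCore 2 t ⊔ (P.S : Subgroup G) := by
  haveI : Fact (Nat.Prime 2) := ⟨Nat.prime_two⟩
  obtain ⟨C, hC⟩ : ∃ C, C = centralizer ({t} : Set G) := ⟨_, rfl⟩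
  have hcl := clean_of_solvable (P.solvable t (P.order_two htS ht1))
  unfold CoreBlock.Clean at hcl
  rw [Cfsg.centralizerPPrimeCore, ← hC]
  have hSC : (P.S : Subgroup G) ≤ C := fun s hs => hC ▸ mem_centralizer_singleton_iff.2 (P.comm hs htS)
  subst hC
  obtain ⟨N, hN⟩ : ∃ N, N = Cfsg.pPrimeCore 2 ↥(centralizer ({t} : Set G)) := ⟨_, rfl⟩
  haveI hNn : N.Normal := by
    rw [hN]
    haveI := CfsgLib.Coprime.pPrimeCore_characteristic (G := ↥(centralizer ({t} : Set G))) 2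
    infer_instance
  have hcl' : Subgroup.centralizer (Cfsg.pCore 2 (↥(centralizer ({t} : Set G)) ⧸ N) : Set _) ≤
      Cfsg.pCore 2 (↥(centralizer ({t} : Set G)) ⧸ N) := by subst hN; exact hcl
  obtain ⟨f, hf⟩ : ∃ f, f = QuotientGroup.mk' N := ⟨_, rfl⟩
  have hfs : Function.Surjective f := hf ▸ QuotientGroup.mk'_surjective N
  obtain ⟨O, hO⟩ : ∃ O, O = Cfsg.pCore 2 (↥(centralizer ({t} : Set G)) ⧸ N) := ⟨_, rfl⟩
  rw [← hO] at hcl'
  obtain ⟨T, hT⟩ : ∃ T, T = (P.S : Subgroup G).subgroupOf (centralizer ({t} : Set G)) := ⟨_, rfl⟩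
  haveI : O.Normal := hO ▸ CfsgLib.Coprime.pCore_normal' 2
  have hOT : O ≤ T.map f := by
    have h := (hO ▸ CfsgLib.Coprime.pCore_isPGroup 2 : IsPGroup 2 O).le_sylow_of_normal
      ((P.S.subtype hSC).mapSurjective hfs)
    rw [Sylow.coe_mapSurjective] at h
    rw [hT]
    exact h
  have hTO : T.map f = O := by
    refine le_antisymm ?_ hOT
    rintro _ ⟨a, ha, rfl⟩
    refine hcl' (mem_centralizer_iff.2 fun y hy => ?_)
    obtain ⟨b, hb, rfl⟩ := hOT hy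
    rw [← map_mul, ← map_mul]
    exact congrArg f (Subtype.ext (P.comm (hT ▸ hb : b ∈ (P.S : Subgroup G).subgroupOf _) (hT ▸ ha : a ∈ (P.S : Subgroup G).subgroupOf _)))
  have hlift : ∀ c : ↥(centralizer ({t} : Set G)), f c ∈ O →
      (c : G) ∈ N.map (centralizer ({t} : Set G)).subtype ⊔ (P.S : Subgroup G) := by
    intro c hc
    rw [← hTO] at hc
    obtain ⟨a, ha, hac⟩ := hc
    have hn : c * a⁻¹ ∈ N := by
      rw [hf, QuotientGroup.mk'_apply, QuotientGroup.mk'_apply, QuotientGroup.eq] at hac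
      have := hNn.conj_mem _ hac a
      rwa [← mul_assoc, mul_inv_cancel, one_mul] at this
    have hmem : (c : G) * (a : G)⁻¹ ∈ N.map (centralizer ({t} : Set G)).subtype := ⟨_, hn, rfl⟩
    have := mul_mem_sup hmem (hT ▸ ha : a ∈ (P.S : Subgroup G).subgroupOf _)
    simpa using this
  rw [← hN]
  refine ⟨fun c hc s hs => ?_, fun c hc h => ?_⟩
  · refine hlift (⟨c, hc⟩ * ⟨s, hSC hs⟩ * ⟨c, hc⟩⁻¹) ?_
    rw [map_mul, map_mul, map_inv]
    exact Subgroup.Normal.conj_mem inferInstance _ (hTO ▸ ⟨_, hT ▸ hs, rfl⟩) _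
  · refine hlift ⟨c, hc⟩ (hcl' (mem_centralizer_iff.2 fun y hy => ?_))
    obtain ⟨a, ha, rfl⟩ := hOT hy
    have ha' : (a : G) ∈ (P.S : Subgroup G) := (hT ▸ ha : a ∈ (P.S : Subgroup G).subgroupOf _)
    obtain ⟨d, hd, hde⟩ := h _ ha'
    have h1 : f (⟨c, hc⟩ * a * ⟨c, hc⟩⁻¹ * a⁻¹) = 1 := by
      rw [hf, QuotientGroup.mk'_apply, QuotientGroup.eq_one_iff]
      rwa [show (⟨c, hc⟩ * a * ⟨c, hc⟩⁻¹ * a⁻¹ : ↥(centralizer ({t} : Set G))) = d from Subtype.ext hde.symm]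
    rw [map_mul, map_mul, map_mul, map_inv, map_inv, mul_inv_eq_one, mul_inv_eq_iff_eq_mul] at h1
    exact h1.symm

theorem centralizer_le_M {t : G} (htS : t ∈ (P.S : Subgroup G)) (ht1 : t ≠ 1) :
    centralizer ({t} : Set G) ≤ P.M := by
  haveI : Fact (Nat.Prime 2) := ⟨Nat.prime_two⟩
  intro c hc
  obtain ⟨P₀, hP₀⟩ : ∃ P₀, P₀ = Cfsg.centralizerPPrimeCore 2 t ⊔ (P.S : Subgroup G) := ⟨_, rfl⟩
  have hSP : (P.S : Subgroup G) ≤ P₀ := hP₀ ▸ le_sup_right
  have hP₀M : P₀ ≤ P.M := hP₀ ▸ sup_le ((P.theta_le t htS ht1).trans P.W_le_M) P.S_le_M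
  obtain ⟨Q, hQ⟩ : ∃ Q, Q = (P.S : Subgroup G).map (MulAut.conj c).toMonoidHom := ⟨_, rfl⟩
  have hQP : Q ≤ P₀ := by
    rw [hQ, hP₀]
    rintro _ ⟨s, hs, rfl⟩
    exact (P.core_sup_normal htS ht1).1 c hc s hs
  obtain ⟨p, hp⟩ := CfsgLib.Invol.exists_conj_le_sylow (Q := Q.subgroupOf P₀)
    ((hQ ▸ P.S.isPGroup'.map _ : IsPGroup 2 Q).comap_subtype) (P.S.subtype hSP)
  have hN : (p : G) * c ∈ normalizer ((P.S : Subgroup G) : Set G) := by
    rw [mem_normalizer_iff_map_conj_eq]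
    refine Subgroup.eq_of_le_of_card_ge ?_ (le_of_eq (card_map_of_injective (MulAut.conj _).injective).symm)
    rintro _ ⟨s, hs, rfl⟩
    have hq : c * s * c⁻¹ ∈ Q := hQ ▸ ⟨s, hs, rfl⟩
    have := hp ⟨c * s * c⁻¹, hQP hq⟩ hq
    show (p : G) * c * s * ((p : G) * c)⁻¹ ∈ (P.S : Subgroup G)
    rw [mul_inv_rev, ← mul_assoc, mul_assoc (p : G) c s, mul_assoc (p : G) (c * s) c⁻¹]
    exact this
  have := mul_mem (inv_mem (hP₀M p.2)) (P.N_le_M hN)
  rwa [inv_mul_cancel_left] at this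

theorem fusion {a b g : G} (ha : a ∈ (P.S : Subgroup G)) (hb : b ∈ (P.S : Subgroup G))
    (h : g * a * g⁻¹ = b) : ∃ n ∈ normalizer ((P.S : Subgroup G) : Set G), n * a * n⁻¹ = b := by
  haveI : Fact (Nat.Prime 2) := ⟨Nat.prime_two⟩
  haveI : IsMulCommutative ↥(P.S : Subgroup G) := P.hS.1
  obtain ⟨n, hn, hne⟩ := P.S.conj_eq_normalizer_conj_of_mem a g⁻¹ ha (by rw [inv_inv, h]; exact hb)
  rw [inv_inv, h] at hne
  exact ⟨n⁻¹, inv_mem hn, by rw [inv_inv]; exact hne.symm⟩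

theorem stronglyEmbedded : Cfsg.IsStronglyEmbedded P.M := by
  rw [CfsgLib.Invol.stronglyEmbedded_iff P.M_ne_top (even_iff_two_dvd.2
    ((show 2 ∣ 8 by norm_num).trans (P.hS8 ▸ card_dvd_of_le P.S_le_M)))]
  intro x hx hxo g hg
  obtain ⟨s, hs, hs1, a, ha, rfl⟩ := P.invol_mem_M hx hxo
  obtain ⟨r, hr, hr1, b, hb, hbe⟩ := P.invol_mem_M hg (CfsgLib.Invol.invol_conj hxo g)
  have e : (b⁻¹ * g * a) * s * (b⁻¹ * g * a)⁻¹ = r := by
    rw [show (b⁻¹ * g * a) * s * (b⁻¹ * g * a)⁻¹ = b⁻¹ * (g * (a * s * a⁻¹) * g⁻¹) * b by group, ← hbe]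
    group
  obtain ⟨n, hn, hne⟩ := P.fusion hs hr e
  have hc : n⁻¹ * (b⁻¹ * g * a) ∈ centralizer ({s} : Set G) := by
    rw [mem_centralizer_singleton_iff]
    calc n⁻¹ * (b⁻¹ * g * a) * s = n⁻¹ * ((b⁻¹ * g * a) * s * (b⁻¹ * g * a)⁻¹) * (b⁻¹ * g * a) := by group
      _ = n⁻¹ * (n * s * n⁻¹) * (b⁻¹ * g * a) := by rw [e, hne]
      _ = s * (n⁻¹ * (b⁻¹ * g * a)) := by group
  have h1 := mul_mem (mul_mem (P.W_le_M hb)
    (mul_mem (P.N_le_M hn) (P.centralizer_le_M hs hs1 hc))) (inv_mem (P.W_le_M ha))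
  rwa [show b * (n * (n⁻¹ * (b⁻¹ * g * a))) * a⁻¹ = g by group] at h1

theorem exists_normalizer_conj {a b : G} (ha : a ∈ (P.S : Subgroup G)) (hb : b ∈ (P.S : Subgroup G))
    (ha1 : a ≠ 1) (hb1 : b ≠ 1) : ∃ n ∈ normalizer ((P.S : Subgroup G) : Set G), n * a * n⁻¹ = b := by
  obtain ⟨g, hg⟩ := isConj_iff.1 (CfsgLib.Invol.exists_conj_fixing P.stronglyEmbedded
    (P.order_two ha ha1) (P.order_two hb hb1))
  exact P.fusion ha hb hg

theorem mem_M_of_conj {z x : G} (hz : z ∈ P.M) (hzo : orderOf z = 2) (h : x * z * x⁻¹ ∈ P.M) :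
    x ∈ P.M :=
  CfsgLib.Invol.mem_of_conj_mem P.stronglyEmbedded hz hzo h

theorem theta_le_of_mem {z : G} (hz : z ∈ P.M) (hzo : orderOf z = 2) :
    Cfsg.centralizerPPrimeCore 2 z ≤ P.W := by
  obtain ⟨s, hs, hs1, a, ha, rfl⟩ := P.invol_mem_M hz hzo
  rw [CfsgLib.TwoGenCore.theta_conj]
  rintro _ ⟨y, hy, rfl⟩
  exact P.conj_W (P.W_le_M ha) (P.theta_le s hs hs1 hy)

/-- The fixed points of `W` and the core agree. -/
theorem inf_centralizer {t : G} (htS : t ∈ (P.S : Subgroup G)) (ht1 : t ≠ 1) :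
    centralizer ({t} : Set G) ⊓ P.W = Cfsg.centralizerPPrimeCore 2 t := by
  refine le_antisymm ?_ (le_inf (map_subtype_le _) (P.theta_le t htS ht1))
  obtain ⟨C, hC⟩ : ∃ C, C = centralizer ({t} : Set G) := ⟨_, rfl⟩
  rw [Cfsg.centralizerPPrimeCore, ← hC]
  have hCM : C ≤ P.M := hC ▸ P.centralizer_le_M htS ht1
  subst hC
  haveI : ((centralizer ({t} : Set G) ⊓ P.W).subgroupOf (centralizer ({t} : Set G))).Normal :=
    ⟨fun w hw g => mem_subgroupOf.2 (mem_inf.2 ⟨(g * w * g⁻¹).2,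
      P.conj_W (hCM g.2) (mem_inf.1 (mem_subgroupOf.1 hw)).2⟩)⟩
  have h1 := CfsgLib.Coprime.le_pPrimeCore_of_not_dvd Nat.prime_two
    (N := (centralizer ({t} : Set G) ⊓ P.W).subgroupOf (centralizer ({t} : Set G)))
    (fun h => P.odd (by
      rw [Nat.card_congr (subgroupOfEquivOfLe inf_le_left).toEquiv] at h
      exact h.trans (card_dvd_of_le inf_le_right)))
  have h2 := map_mono (f := (centralizer ({t} : Set G)).subtype) h1
  rwa [map_subgroupOf_eq_of_le inf_le_left] at h2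

end Setup

end CfsgLib.ElemEight
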