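import Cfsg.Agent.Lib.OddConseq.ElemEight.Frame

/-!
# A strongly embedded normalizer of order 168: the possible orders
-/

set_option autoImplicit false

namespace CfsgLib.ElemEight

open Subgroup MulAction

universe u

variable {G : Type u} [Group G] [Finite G] (Z : Conf G)

local notation "o" => (((1 : G) : G) : G ⧸ Z.H)

include Z

theorem zpowers_eq_of_mem {y y' : G} (hy : orderOf y = 7) (hy' : orderOf y' = 7)
    (h : y' ∈ zpowers y) : zpowers y' = zpowers y :=
  Subgroup.eq_of_le_of_card_ge (zpowers_le.2 h) (by rw [Nat.card_zpowers, Nat.card_zpowers, hy, hy'])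

theorem zpowers_conj (h y : G) :
    (zpowers y).map (MulAut.conj h).toMonoidHom = zpowers (h * y * h⁻¹) :=
  MonoidHom.map_zpowers _ y

/-- The subgroups of order seven of `H`. -/
abbrev Sevens := {Q : Subgroup G // ∃ y ∈ Z.H, orderOf y = 7 ∧ zpowers y = Q}

theorem conj_sevens {y y' : G} (hy : y ∈ Z.H) (hyo : orderOf y = 7) (hy' : y' ∈ Z.H)
    (hy'o : orderOf y' = 7) : ∃ h ∈ Z.H, zpowers (h * y * h⁻¹) = zpowers y' := by
  haveI : Fact (Nat.Prime 7) := ⟨by norm_num⟩
  have hp : ∀ {x : G} (hx : x ∈ Z.H), orderOf x = 7 →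
      ∃ P : Sylow 7 Z.H, (P : Subgroup Z.H) = zpowers (⟨x, hx⟩ : Z.H) := by
    intro x hx hxo
    refine ⟨Sylow.ofCard (zpowers (⟨x, hx⟩ : Z.H)) ?_, rfl⟩
    rw [Nat.card_zpowers, ← Subgroup.orderOf_coe, hxo, Z.cardH,
      show (168 : ℕ).factorization 7 = 1 by
        rw [show (168 : ℕ) = 7 ^ 1 * 24 from rfl, Nat.factorization_mul (by norm_num) (by norm_num),
          Finsupp.add_apply, Nat.Prime.factorization_pow (by norm_num), Finsupp.single_eq_same,
          Nat.factorization_eq_zero_of_not_dvd (by norm_num)]]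
    rw [pow_one]
  obtain ⟨P, hP⟩ := hp hy hyo
  obtain ⟨P', hP'⟩ := hp hy' hy'o
  obtain ⟨g, hg⟩ := MulAction.exists_smul_eq Z.H P P'
  refine ⟨g, g.2, zpowers_eq_of_mem Z hy'o (by
    exact (orderOf_injective (MulAut.conj (g : G)).toMonoidHom (MulAut.conj (g : G)).injective y).trans hyo) ?_⟩
  have h1 : (g * ⟨y, hy⟩ * g⁻¹ : Z.H) ∈ ((g • P : Sylow 7 Z.H) : Subgroup Z.H) :=
    ⟨⟨y, hy⟩, hP ▸ mem_zpowers _, rfl⟩
  rw [hg, hP'] at h1
  obtain ⟨k, hk⟩ := h1
  exact ⟨k, by simpa using congrArg Subtype.val hk⟩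

/-- Facts about one subgroup of order seven. -/
theorem card_normalizer_inf {y : G} (hy : y ∈ Z.H) (hyo : orderOf y = 7) :
    Nat.card ↥(normalizer (zpowers y : Set G) ⊓ Z.H) = 21 ∧ Nat.card (Sevens Z) = 8 := by
  classical
  haveI : Fact (Nat.Prime 7) := ⟨by norm_num⟩
  -- `H` permutes its eight subgroups of order seven
  let φ : Z.H → Sevens Z := fun h =>
    ⟨zpowers ((h : G) * y * (h : G)⁻¹), (h : G) * y * (h : G)⁻¹,
      mul_mem (mul_mem h.2 hy) (inv_mem h.2),
      (orderOf_injective (MulAut.conj (h : G)).toMonoidHom (MulAut.conj (h : G)).injective y).trans hyo, rfl⟩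
  have hsurj : Function.Surjective φ := by
    rintro ⟨_, y', hy', hy'o, rfl⟩
    obtain ⟨h, hh, he⟩ := conj_sevens Z hy hyo hy' hy'o
    exact ⟨⟨h, hh⟩, Subtype.ext he⟩
  obtain ⟨K, hK⟩ : ∃ K, K = (normalizer (zpowers y : Set G)).subgroupOf Z.H := ⟨_, rfl⟩
  have hfib : ∀ a b : Z.H, φ a = φ b ↔ a⁻¹ * b ∈ K := by
    intro a b
    rw [hK, mem_subgroupOf, mem_normalizer_iff_map_conj_eq]
    constructor
    · intro h
      have h' : (zpowers y).map (MulAut.conj (a : G)).toMonoidHom =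
          (zpowers y).map (MulAut.conj (b : G)).toMonoidHom := by
        rw [zpowers_conj Z, zpowers_conj Z]; exact congrArg Subtype.val h
      show (zpowers y).map (MulAut.conj (((a⁻¹ * b : Z.H) : G))).toMonoidHom = zpowers y
      calc (zpowers y).map (MulAut.conj (((a⁻¹ * b : Z.H) : G))).toMonoidHom
          = ((zpowers y).map (MulAut.conj (b : G)).toMonoidHom).map
              (MulAut.conj (a : G)⁻¹).toMonoidHom := by
            rw [Subgroup.map_map]; congr 1; ext x; simp [mul_assoc]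
        _ = ((zpowers y).map (MulAut.conj (a : G)).toMonoidHom).map
              (MulAut.conj (a : G)⁻¹).toMonoidHom := by rw [h']
        _ = zpowers y := by
            rw [Subgroup.map_map]; ext x; simp [mul_assoc]
    · intro h
      refine Subtype.ext ?_
      show zpowers _ = zpowers _
      rw [← zpowers_conj Z, ← zpowers_conj Z]
      conv_lhs => rw [← (show (zpowers y).map (MulAut.conj (((a⁻¹ * b : Z.H) : G))).toMonoidHom =
        zpowers y from h)]
      rw [Subgroup.map_map]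
      congr 1
      ext x
      simp [mul_assoc]
  let e : (Z.H ⧸ K) ≃ Sevens Z := Equiv.ofBijective
    (Quotient.lift φ fun a b hab => (hfib a b).2 (QuotientGroup.leftRel_apply.1 hab))
    ⟨fun a b hab => by
      induction a using QuotientGroup.induction_on with | H a => ?_
      induction b using QuotientGroup.induction_on with | H b => ?_
      exact QuotientGroup.eq.2 ((hfib a b).1 hab), fun Q => by
      obtain ⟨a, ha⟩ := hsurj Q
      exact ⟨(a : Z.H ⧸ K), ha⟩⟩
  have hKc : Nat.card K = Nat.card ↥(normalizer (zpowers y : Set G) ⊓ Z.H) := by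
    rw [hK, ← Subgroup.inf_subgroupOf_right, Nat.card_congr (subgroupOfEquivOfLe inf_le_right).toEquiv]
  have hidx : K.index = Nat.card (Sevens Z) := Nat.card_congr e
  have hmul := K.card_mul_index
  rw [Z.cardH, hKc, hidx] at hmul
  -- the number is congruent to one modulo seven
  obtain ⟨P, hP⟩ : ∃ P : Sylow 7 Z.H, (P : Subgroup Z.H) = zpowers (⟨y, hy⟩ : Z.H) := by
    refine ⟨Sylow.ofCard (zpowers (⟨y, hy⟩ : Z.H)) ?_, rfl⟩
    rw [Nat.card_zpowers, ← Subgroup.orderOf_coe, hyo, Z.cardH,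
      show (168 : ℕ).factorization 7 = 1 by
        rw [show (168 : ℕ) = 7 ^ 1 * 24 from rfl, Nat.factorization_mul (by norm_num) (by norm_num),
          Finsupp.add_apply, Nat.Prime.factorization_pow (by norm_num), Finsupp.single_eq_same,
          Nat.factorization_eq_zero_of_not_dvd (by norm_num)]]
    rw [pow_one]
  have hKn : normalizer ((P : Subgroup Z.H) : Set Z.H) = K := by
    have hmap : (P : Subgroup Z.H).map Z.H.subtype = zpowers y := by
      rw [hP]; exact MonoidHom.map_zpowers _ _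
    ext g
    rw [hK, mem_subgroupOf, mem_normalizer_iff, mem_normalizer_iff, ← hmap]
    constructor
    · intro h x
      constructor
      · rintro ⟨w, hw, rfl⟩
        exact ⟨g * w * g⁻¹, (h w).1 hw, rfl⟩
      · rintro ⟨w, hw, hwe⟩
        refine ⟨g⁻¹ * w * g, (h _).2 (by rw [show g * (g⁻¹ * w * g) * g⁻¹ = w by group]; exact hw), ?_⟩
        show ((g⁻¹ * w * g : Z.H) : G) = x
        simp only [coe_subtype] at hwe
        rw [Subgroup.coe_mul, Subgroup.coe_mul, InvMemClass.coe_inv, hwe]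
        group
    · intro h w
      constructor
      · intro hw
        obtain ⟨w', hw', he⟩ := (h w).1 ⟨w, hw, rfl⟩
        rwa [show g * w * g⁻¹ = w' from Subtype.ext he.symm]
      · intro hw
        obtain ⟨w', hw', he⟩ := (h w).2 ⟨g * w * g⁻¹, hw, rfl⟩
        rwa [show w = w' from Subtype.ext he.symm]
  have hmod := card_sylow_modEq_one 7 Z.H
  rw [P.card_eq_index_normalizer] at hmod
  have hmod' : (normalizer ((P : Subgroup Z.H) : Set Z.H)).index % 7 = 1 % 7 := hmod
  rw [hKn, hidx] at hmod'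
  -- it is not one: `P` would centralize `S`
  have hne : Nat.card (Sevens Z) ≠ 1 := by
    intro h1
    have hall : ∀ h ∈ Z.H, ∀ z ∈ zpowers y, h * z * h⁻¹ ∈ zpowers y := by
      intro h hh z hz
      have : (⟨h, hh⟩ : Z.H) ∈ K := by
        have htop : K = ⊤ := Subgroup.index_eq_one.1 (hidx.trans h1)
        rw [htop]; exact mem_top _
      rw [hK, mem_subgroupOf] at this
      exact (mem_normalizer_iff.1 this z).1 hz
    obtain ⟨t, htH, hto⟩ := CfsgLib.Invol.exists_invol_mem Z.hH.2.1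
    have htS := invol_mem_S Z htH hto
    have hy1 : t * y * t⁻¹ * y⁻¹ ∈ zpowers y := mul_mem (hall t htH y (mem_zpowers y)) (inv_mem (mem_zpowers y))
    have hy2 : t * y * t⁻¹ * y⁻¹ ∈ Z.S := by
      have := mul_mem htS (Z.norm y hy t⁻¹ (inv_mem htS))
      simpa [mul_assoc] using this
    have : t * y * t⁻¹ * y⁻¹ = 1 := by
      have h7 : orderOf (t * y * t⁻¹ * y⁻¹) ∣ 7 := hyo ▸ orderOf_dvd_of_mem_zpowers hy1
      have h2 : orderOf (t * y * t⁻¹ * y⁻¹) ∣ 2 := orderOf_dvd_of_pow_eq_one (Z.sq _ hy2)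
      exact orderOf_eq_one_iff.1 (Nat.eq_one_of_dvd_coprimes (by norm_num) h7 h2)
    refine no_seven_commute Z hto hyo ?_
    exact (mul_inv_eq_iff_eq_mul.1 (mul_inv_eq_one.1 this)).symm
  have hdvd : Nat.card (Sevens Z) ∣ 168 := ⟨_, by rw [← hmul, mul_comm]⟩
  have hle := Nat.le_of_dvd (by norm_num) hdvd
  have h8 : Nat.card (Sevens Z) = 8 := by
    have hm : Nat.card (Sevens Z) % 7 = 1 := hmod'
    have key : ∀ k : Fin 169, k.val ∣ 168 → k.val % 7 = 1 → k.val ≠ 1 → k.val = 8 := by decide +kernel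
    exact key ⟨_, Nat.lt_succ_of_le hle⟩ hdvd hm hne
  rw [h8] at hmul
  exact ⟨by omega, h8⟩

/-- The fixed points of an element of `G`. -/
abbrev Fix (y : G) := {x : G ⧸ Z.H // y • x = x}

theorem fix_of_mem_zpowers {y z : G} (h : z ∈ zpowers y) {x : G ⧸ Z.H} (hx : y • x = x) : z • x = x :=
  (zpowers_le.2 (mem_stabilizer_iff.2 hx) h : z ∈ stabilizer G x)

theorem card_quotient {y : G} (hy : y ∈ Z.H) (hyo : orderOf y = 7) :
    Z.H.index + 7 = 8 * Nat.card (Fix Z y) := by
  classical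
  -- the points other than `o` are sorted by their subgroup of order seven
  have hfun : ∀ x : {x : G ⧸ Z.H // x ≠ o}, ∃ Q : Sevens Z, ∀ z ∈ Q.1, z • x.1 = x.1 := by
    rintro ⟨x, hx⟩
    obtain ⟨u, -, -, z, hzH, hzo, hzx, -, -⟩ := exists_inverter Z hx
    exact ⟨⟨zpowers z, z, hzH, hzo, rfl⟩, fun w hw => fix_of_mem_zpowers Z hw hzx⟩
  choose Φ hΦ using hfun
  have hΦu : ∀ (x : {x : G ⧸ Z.H // x ≠ o}) (Q : Sevens Z), (∀ z ∈ Q.1, z • x.1 = x.1) → Φ x = Q := by
    intro x Q hQ
    obtain ⟨u, -, -, z, hzH, hzo, hzx, -, huniq⟩ := exists_inverter Z x.2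
    have key : ∀ R : Sevens Z, (∀ w ∈ R.1, w • x.1 = x.1) → R.1 = zpowers z := by
      rintro ⟨_, r, hr, hro, rfl⟩ hR
      exact zpowers_eq_of_mem Z hzo hro (huniq r hr hro (hR r (mem_zpowers r)))
    exact Subtype.ext ((key _ (hΦ x)).trans (key Q hQ).symm)
  have hy' : ∀ z ∈ Z.H, z • o = o := fun z hz => (smul_o_iff Z).2 hz
  have hfib : ∀ Q : Sevens Z, Nat.card {x // Φ x = Q} + 1 = Nat.card (Fix Z y) := by
    rintro ⟨_, r, hr, hro, rfl⟩
    obtain ⟨h, hh, he⟩ := conj_sevens Z hy hyo hr hro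
    have hr' : ∀ x : G ⧸ Z.H, r • x = x ↔ y • (h⁻¹ • x) = h⁻¹ • x := by
      intro x
      rw [← CfsgLib.Invol.conj_fixes (g := h) (t := y) (a := h⁻¹ • x), smul_inv_smul]
      constructor
      · exact fun hx => fix_of_mem_zpowers Z (he ▸ mem_zpowers _) hx
      · exact fun hx => fix_of_mem_zpowers Z (he.symm ▸ mem_zpowers _) hx
    let e : {x // Φ x = (⟨zpowers r, r, hr, hro, rfl⟩ : Sevens Z)} ⊕ Unit ≃ Fix Z y :=
      Equiv.ofBijective (Sum.elim
        (fun x => ⟨h⁻¹ • x.1.1, (hr' x.1.1).1 (by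
          have := hΦ x.1; rw [x.2] at this; exact this r (mem_zpowers r))⟩)
        (fun _ => ⟨o, hy' y hy⟩))
        ⟨by
          rintro (⟨⟨a, ha⟩, hae⟩ | ⟨⟩) (⟨⟨b, hb⟩, hbe⟩ | ⟨⟩) hab
          · simp only [Sum.elim_inl, Subtype.mk.injEq, smul_left_cancel_iff] at hab
            subst hab; rfl
          · simp only [Sum.elim_inl, Sum.elim_inr, Subtype.mk.injEq] at hab
            rw [inv_smul_eq_iff, hy' h hh] at hab
            exact absurd hab ha
          · simp only [Sum.elim_inl, Sum.elim_inr, Subtype.mk.injEq] at hab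
            rw [eq_inv_smul_iff, hy' h hh] at hab
            exact absurd hab.symm hb
          · rfl,
        fun ⟨x, hx⟩ => by
          by_cases hxo : x = o
          · exact ⟨Sum.inr (), Subtype.ext hxo.symm⟩
          · have hne : h • x ≠ o := fun e => hxo (by
              rw [← inv_smul_smul h x, e, hy' _ (inv_mem hh)])
            have hfix : r • (h • x) = h • x := (hr' _).2 (by rw [inv_smul_smul]; exact hx)
            refine ⟨Sum.inl ⟨⟨h • x, hne⟩, hΦu _ _ fun z hz => fix_of_mem_zpowers Z hz hfix⟩, ?_⟩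
            exact Subtype.ext (inv_smul_smul h x)⟩
    rw [← Nat.card_congr e, Nat.card_sum, Nat.card_unique (α := Unit)]
  haveI := Fintype.ofFinite (Sevens Z)
  have hsig : Nat.card {x : G ⧸ Z.H // x ≠ o} = ∑ Q : Sevens Z, Nat.card {x // Φ x = Q} := by
    rw [← Nat.card_congr (Equiv.sigmaFiberEquiv Φ), Nat.card_sigma]
  have hconst : ∀ Q : Sevens Z, Nat.card {x // Φ x = Q} = Nat.card (Fix Z y) - 1 := fun Q => by
    have := hfib Q; omega
  rw [Finset.sum_congr rfl fun Q _ => hconst Q, Finset.sum_const, Finset.card_univ,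
    ← Nat.card_eq_fintype_card, (card_normalizer_inf Z hy hyo).2, smul_eq_mul] at hsig
  haveI := Fintype.ofFinite (G ⧸ Z.H)
  rw [Nat.card_eq_fintype_card, Fintype.card_subtype_compl (fun x : G ⧸ Z.H => x = o),
    Fintype.card_subtype_eq, ← Nat.card_eq_fintype_card] at hsig
  have hidx : Z.H.index = Nat.card (G ⧸ Z.H) := rfl
  have hpos : 0 < Nat.card (Fix Z y) :=
    Nat.card_pos_iff.2 ⟨⟨⟨o, hy' y hy⟩⟩, inferInstance⟩
  have hpos2 : 0 < Nat.card (G ⧸ Z.H) := Nat.card_pos
  omega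

theorem card_normalizer {y : G} (hy : y ∈ Z.H) (hyo : orderOf y = 7) :
    Nat.card ↥(normalizer (zpowers y : Set G)) = 21 * Nat.card (Fix Z y) := by
  classical
  obtain ⟨N, hN⟩ : ∃ N, N = normalizer (zpowers y : Set G) := ⟨_, rfl⟩
  rw [← hN]
  have hstab : stabilizer N o = Z.H.subgroupOf N := by
    ext g
    rw [mem_stabilizer_iff, mem_subgroupOf]
    exact smul_o_iff Z (g := (g : G))
  have horb : orbit N o = {x : G ⧸ Z.H | y • x = x} := by
    ext x
    constructor
    · rintro ⟨g, rfl⟩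
      show y • ((g : G) • o) = (g : G) • o
      have hmem : (g : G)⁻¹ * y * (g : G) ∈ zpowers y := by
        have h := (mem_normalizer_iff.1 (inv_mem (hN ▸ g.2 : (g : G) ∈ normalizer (zpowers y : Set G))) y).1
          (mem_zpowers y)
        rwa [inv_inv] at h
      have := fix_of_mem_zpowers Z hmem ((smul_o_iff Z).2 hy)
      rwa [mul_smul, mul_smul, inv_smul_eq_iff] at this
    · intro hx
      obtain ⟨g, rfl⟩ := QuotientGroup.mk_surjective x
      have hg : (g : G ⧸ Z.H) = g • o := by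
        rw [MulAction.Quotient.smul_mk, smul_eq_mul, mul_one]
      have h1 : g⁻¹ * y * g ∈ Z.H := by
        rw [← smul_o_iff Z, mul_smul, mul_smul, ← hg, inv_smul_eq_iff]
        exact hx.trans hg
      have h1o : orderOf (g⁻¹ * y * g) = 7 := by
        have := (orderOf_injective (MulAut.conj g⁻¹).toMonoidHom (MulAut.conj g⁻¹).injective y).trans hyo
        simpa using this
      obtain ⟨h, hh, he⟩ := conj_sevens Z hy hyo h1 h1o
      have hgN : g * h ∈ N := by
        rw [hN, mem_normalizer_iff_map_conj_eq]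
        show (zpowers y).map (MulAut.conj (g * h)).toMonoidHom = zpowers y
        have e2 : (zpowers y).map (MulAut.conj (g * h)).toMonoidHom =
            ((zpowers y).map (MulAut.conj h).toMonoidHom).map (MulAut.conj g).toMonoidHom := by
          rw [Subgroup.map_map]; congr 1; ext x; simp [mul_assoc]
        rw [e2, zpowers_conj Z h, he, zpowers_conj Z g, show g * (g⁻¹ * y * g) * g⁻¹ = y by group]
      refine ⟨⟨g * h, hgN⟩, ?_⟩
      show (g * h) • o = (g : G ⧸ Z.H)
      rw [mul_smul, (smul_o_iff Z).2 hh, ← hg]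
  have hidx := index_stabilizer N o
  rw [hstab, horb] at hidx
  have hc : Nat.card (Z.H.subgroupOf N) = 21 := by
    rw [← Subgroup.inf_subgroupOf_left, Nat.card_congr (subgroupOfEquivOfLe inf_le_left).toEquiv, hN]
    exact (card_normalizer_inf Z hy hyo).1
  have := (Z.H.subgroupOf N).card_mul_index
  rw [hc, hidx] at this
  rw [← this, ← Nat.card_coe_set_eq]
  rfl

/-- The centralizer of an element of order seven has odd order. -/
theorem centralizer_seven_odd {y : G} (hyo : orderOf y = 7) :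
    ¬ 2 ∣ Nat.card ↥(centralizer ({y} : Set G)) := by
  intro h
  haveI : Fact (Nat.Prime 2) := ⟨Nat.prime_two⟩
  obtain ⟨t, ht⟩ := exists_prime_orderOf_dvd_card' 2 h
  rw [← Subgroup.orderOf_coe] at ht
  exact no_seven_commute Z ht hyo (mem_centralizer_singleton_iff.1 t.2).symm

/-- The order of `G` in terms of the centralizer of an element of order seven. -/
theorem exists_order : ∃ y ∈ Z.H, orderOf y = 7 ∧ ∃ m : ℕ, m ∣ 21 ∧
    Nat.card ↥(centralizer ({y} : Set G)) = 7 * m ∧
    Nat.card ↥(normalizer (zpowers y : Set G)) = 42 * m ∧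
    Nat.card G + 168 * 7 = 168 * (16 * m) := by
  classical
  haveI : Fact (Nat.Prime 7) := ⟨by norm_num⟩
  obtain ⟨y', hy'⟩ := exists_prime_orderOf_dvd_card' 7 (show 7 ∣ Nat.card Z.H by rw [Z.cardH]; norm_num)
  obtain ⟨y, hy, hyo⟩ : ∃ y ∈ Z.H, orderOf y = 7 := ⟨y', y'.2, by rwa [Subgroup.orderOf_coe]⟩
  refine ⟨y, hy, hyo, ?_⟩
  obtain ⟨N, hN⟩ : ∃ N, N = normalizer (zpowers y : Set G) := ⟨_, rfl⟩
  obtain ⟨C, hC⟩ : ∃ C, C = centralizer ({y} : Set G) := ⟨_, rfl⟩
  have hCN : C ≤ N := by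
    rw [hC, hN, zpowers_eq_closure]
    exact fun g hg => centralizer_le_normalizer _ (by rwa [centralizer_closure])
  let φ : N →* MulAut ↥(zpowers y) :=
    (normalizerMonoidHom (zpowers y)).comp (Subgroup.inclusion hN.le)
  have hcy : centralizer ((zpowers y : Subgroup G) : Set G) = centralizer ({y} : Set G) := by
    rw [zpowers_eq_closure, centralizer_closure]
  have hker : φ.ker = C.subgroupOf N := by
    ext g
    have hk := SetLike.ext_iff.1 (normalizerMonoidHom_ker (zpowers y)) (Subgroup.inclusion hN.le g)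
    rw [mem_subgroupOf, Subgroup.coe_inclusion, hcy, ← hC] at hk
    rw [mem_subgroupOf]
    exact hk
  have haut : Nat.card (MulAut ↥(zpowers y)) = 6 := by
    rw [IsCyclic.card_mulAut, Nat.card_zpowers, hyo, Nat.totient_prime (by norm_num)]
  have hrange : Nat.card φ.range ∣ 6 := haut ▸ card_subgroup_dvd_card _
  -- an inverter gives an automorphism of order two
  obtain ⟨x, hx⟩ : ∃ x : G ⧸ Z.H, x ≠ o := by
    by_contra h
    push Not at h
    refine Z.hH.1 (eq_top_iff.2 fun g _ => (smul_o_iff Z).1 (h _))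
  obtain ⟨u, hu, -, z, hzH, hzo, -, huz, -⟩ := exists_inverter Z hx
  obtain ⟨h, hh, he⟩ := conj_sevens Z hzH hzo hy hyo
  have hv : orderOf (h * u * h⁻¹) = 2 := CfsgLib.Invol.invol_conj hu h
  have hvy : h * u * h⁻¹ * y * (h * u * h⁻¹)⁻¹ = y⁻¹ := by
    obtain ⟨k, hk⟩ : y ∈ zpowers (h * z * h⁻¹) := he ▸ mem_zpowers y
    have hk' : (h * z * h⁻¹) ^ k = y := hk
    calc h * u * h⁻¹ * y * (h * u * h⁻¹)⁻¹
        = h * u * h⁻¹ * (h * z * h⁻¹) ^ k * (h * u * h⁻¹)⁻¹ := by rw [hk']
      _ = (h * (u * z * u⁻¹) * h⁻¹) ^ k := by rw [← conj_zpow]; congr 1; group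
      _ = ((h * z * h⁻¹) ^ k)⁻¹ := by rw [huz, ← inv_zpow]; congr 1; group
      _ = y⁻¹ := by rw [hk']
  have hvN : h * u * h⁻¹ ∈ N := by
    rw [hN, mem_normalizer_iff_map_conj_eq]
    show (zpowers y).map (MulAut.conj (h * u * h⁻¹)).toMonoidHom = zpowers y
    rw [zpowers_conj Z, hvy, zpowers_inv]
  have h2 : 2 ∣ Nat.card φ.range := by
    have hne : (⟨h * u * h⁻¹, hvN⟩ : N) ∉ φ.ker := by
      rw [hker, mem_subgroupOf, hC, mem_centralizer_singleton_iff]
      exact fun e => no_seven_commute Z hv hyo (Eq.symm e)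
    have ho : orderOf (φ.rangeRestrict ⟨h * u * h⁻¹, hvN⟩) = 2 := by
      refine orderOf_eq_prime (hp := ⟨Nat.prime_two⟩) ?_ ?_
      · rw [← map_pow, show (⟨h * u * h⁻¹, hvN⟩ : N) ^ 2 = 1 from Subtype.ext (hv ▸ pow_orderOf_eq_one _),
          map_one]
      · exact fun e => hne (MonoidHom.mem_ker.2 (congrArg Subtype.val e))
    exact ho ▸ orderOf_dvd_natCard _
  -- an element of order three of `H` normalizing `⟨y⟩`
  haveI : Fact (Nat.Prime 3) := ⟨Nat.prime_three⟩
  obtain ⟨w, hw⟩ := exists_prime_orderOf_dvd_card' 3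
    (show 3 ∣ Nat.card ↥(normalizer (zpowers y : Set G) ⊓ Z.H) by
      rw [(card_normalizer_inf Z hy hyo).1]; norm_num)
  rw [← Subgroup.orderOf_coe] at hw
  have hwN : (w : G) ∈ N := hN ▸ w.2.1
  have h3 : 3 ∣ Nat.card φ.range := by
    have hne : (⟨(w : G), hwN⟩ : N) ∉ φ.ker := by
      rw [hker, mem_subgroupOf, hC, mem_centralizer_singleton_iff]
      intro e
      have h' : orderOf (w : G) ∣ 7 := hyo ▸ orderOf_dvd_of_mem_zpowers
        (mem_zpowers_of_commute Z hy hyo w.2.2 e)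
      rw [hw] at h'; norm_num at h'
    have ho : orderOf (φ.rangeRestrict ⟨(w : G), hwN⟩) = 3 := by
      refine orderOf_eq_prime ?_ ?_
      · rw [← map_pow, show (⟨(w : G), hwN⟩ : N) ^ 3 = 1 from Subtype.ext (hw ▸ pow_orderOf_eq_one _),
          map_one]
      · exact fun e => hne (MonoidHom.mem_ker.2 (congrArg Subtype.val e))
    exact ho ▸ orderOf_dvd_natCard _
  have h6 : Nat.card φ.range = 6 :=
    Nat.dvd_antisymm hrange (Nat.Coprime.mul_dvd_of_dvd_of_dvd (by norm_num : Nat.Coprime 2 3) h2 h3)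
  have hNC : Nat.card N = Nat.card C * 6 := by
    have h := φ.ker.card_mul_index
    rw [Subgroup.index_ker, h6, hker, Nat.card_congr (subgroupOfEquivOfLe hCN).toEquiv] at h
    exact h.symm
  have h7 : 7 ∣ Nat.card C := by
    rw [hC, ← hyo]
    exact Subgroup.orderOf_dvd_natCard _ (mem_centralizer_singleton_iff.2 rfl)
  obtain ⟨m, hm⟩ := h7
  have hNf := card_normalizer Z hy hyo
  rw [← hN] at hNf
  have hn := card_quotient Z hy hyo
  have hG := Z.H.card_mul_index
  rw [Z.cardH] at hG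
  have hf : Nat.card (Fix Z y) = 2 * m := by omega
  have hG' : Nat.card G + 168 * 7 = 168 * (16 * m) := by omega
  refine ⟨m, ?_, hC ▸ hm, hN ▸ (by omega), hG'⟩
  have hodd : ¬ 2 ∣ m := fun hd =>
    centralizer_seven_odd Z hyo (hC ▸ hm ▸ hd.mul_left 7)
  have hdC : 7 * m ∣ Nat.card G := hm ▸ card_subgroup_dvd_card C
  have hcop : Nat.Coprime m (2 ^ 3) := ((Nat.Prime.coprime_iff_not_dvd Nat.prime_two).2 hodd).symm.pow_right 3
  have h7m : 7 * m ∣ 7 * 168 := by
    refine (Nat.dvd_add_right hdC).1 ⟨24 * 16, ?_⟩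
    omega
  have h168 : m ∣ 168 := Nat.dvd_of_mul_dvd_mul_left (by norm_num : 0 < 7) h7m
  exact hcop.dvd_of_dvd_mul_left (show m ∣ 2 ^ 3 * 21 from h168)

end CfsgLib.ElemEight
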