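import Cfsg.Agent.Lib.Invol.StronglyEmbeddedOrbits
import Mathlib.GroupTheory.Sylow
import Mathlib.GroupTheory.GroupAction.Quotient
import Mathlib.Tactic.NormNum.Prime
import Mathlib.GroupTheory.Perm.Cycle.Type
import Mathlib.RingTheory.Int.Basic

/-!
# A strongly embedded normalizer of order 168 of an elementary group of order 8: counting
-/

set_option autoImplicit false

namespace CfsgLib.ElemEight

open Subgroup MulAction

universe u

/-- A strongly embedded subgroup `H` of order 168 with self-centralizing normal subgroup `S` of order 8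
and exponent 2 containing the centralizers of its involutions. -/
structure Conf (G : Type u) [Group G] where
  S : Subgroup G
  H : Subgroup G
  hH : Cfsg.IsStronglyEmbedded H
  cardH : Nat.card H = 168
  cardS : Nat.card S = 8
  le : S ≤ H
  norm : ∀ h ∈ H, ∀ s ∈ S, h * s * h⁻¹ ∈ S
  sq : ∀ s ∈ S, s ^ 2 = 1
  comm : ∀ s ∈ S, ∀ s' ∈ S, Commute s s'
  cent : ∀ x : G, (∀ s ∈ S, Commute x s) → x ∈ S
  centH : ∀ t ∈ S, orderOf t = 2 → centralizer ({t} : Set G) ≤ H

variable {G : Type u} [Group G] [Finite G] (Z : Conf G)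

include Z
theorem invol_mem_S {t : G} (ht : t ∈ Z.H) (hto : orderOf t = 2) : t ∈ Z.S := by
  haveI : (Z.S.subgroupOf Z.H).Normal := ⟨fun s hs h => Z.norm h h.2 s hs⟩
  have hidx : (Z.S.subgroupOf Z.H).index = 21 := by
    have h := (Z.S.subgroupOf Z.H).card_mul_index
    rw [Nat.card_congr (subgroupOfEquivOfLe Z.le).toEquiv, Z.cardS, Z.cardH] at h
    omega
  have h := Subgroup.pow_index_mem (Z.S.subgroupOf Z.H) (⟨t, ht⟩ : Z.H)
  rw [hidx, mem_subgroupOf, SubgroupClass.coe_pow] at h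
  have h2 : t ^ 2 = 1 := hto ▸ pow_orderOf_eq_one t
  rwa [show (21 : ℕ) = 2 * 10 + 1 from rfl, pow_succ, pow_mul, h2, one_pow, one_mul] at h

/-- The involutions of `H`. -/
abbrev Invs := {t : G // orderOf t = 2 ∧ t ∈ Z.H}

theorem card_invs : Nat.card (Invs Z) = 7 := by
  classical
  haveI : Fact (Nat.Prime 2) := ⟨Nat.prime_two⟩
  let e : Invs Z ≃ {s : Z.S // s ≠ 1} :=
    { toFun := fun t => ⟨⟨t.1, invol_mem_S Z t.2.2 t.2.1⟩, fun h => by
        have h' : t.1 = 1 := congrArg Subtype.val h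
        have := t.2.1; rw [h', orderOf_one] at this; norm_num at this⟩
      invFun := fun s => ⟨(s.1 : G), orderOf_eq_prime (Z.sq _ s.1.2) (fun h => s.2 (Subtype.ext h)),
        Z.le s.1.2⟩
      left_inv := fun t => rfl
      right_inv := fun s => rfl }
  haveI := Fintype.ofFinite Z.S
  rw [Nat.card_congr e, Nat.card_eq_fintype_card, Fintype.card_subtype_compl (fun s : Z.S => s = 1),
    Fintype.card_subtype_eq, ← Nat.card_eq_fintype_card, Z.cardS]

theorem conj_isConj {t s : G} (ht : orderOf t = 2) (hs : orderOf s = 2) (htH : t ∈ Z.H)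
    (hsH : s ∈ Z.H) : ∃ h ∈ Z.H, h * t * h⁻¹ = s := by
  obtain ⟨g, hg⟩ := isConj_iff.1 (CfsgLib.Invol.exists_conj_fixing Z.hH ht hs)
  exact ⟨g, CfsgLib.Invol.mem_of_conj_mem Z.hH htH ht (hg ▸ hsH), hg⟩

theorem conj_invs {h : G} (hh : h ∈ Z.H) {t : G} (ht : orderOf t = 2 ∧ t ∈ Z.H) :
    orderOf (h * t * h⁻¹) = 2 ∧ h * t * h⁻¹ ∈ Z.H :=
  ⟨CfsgLib.Invol.invol_conj ht.1 h, mul_mem (mul_mem hh ht.2) (inv_mem hh)⟩

/-- The action of `H` on its involutions. -/
def act : Z.H →* Equiv.Perm (Invs Z) where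
  toFun h :=
    { toFun := fun t => ⟨(h : G) * t.1 * (h : G)⁻¹, conj_invs Z h.2 t.2⟩
      invFun := fun t => ⟨(h : G)⁻¹ * t.1 * ((h : G)⁻¹)⁻¹, conj_invs Z (inv_mem h.2) t.2⟩
      left_inv := fun t => Subtype.ext (by simp [mul_assoc])
      right_inv := fun t => Subtype.ext (by simp [mul_assoc]) }
  map_one' := Equiv.ext fun t => Subtype.ext (by simp)
  map_mul' a b := Equiv.ext fun t => Subtype.ext (by simp [mul_assoc])

@[simp] theorem act_apply (h : Z.H) (t : Invs Z) : ((act Z h t).1 : G) = (h : G) * t.1 * (h : G)⁻¹ := rfl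

theorem mem_S_of_act_eq_one {h : Z.H} (hh : act Z h = 1) : (h : G) ∈ Z.S := by
  refine Z.cent _ fun s hs => ?_
  by_cases hs1 : s = 1
  · exact hs1 ▸ Commute.one_right _
  · have h1 := congrArg (fun p : Equiv.Perm (Invs Z) =>
      ((p ⟨s, orderOf_eq_prime (hp := ⟨Nat.prime_two⟩) (Z.sq s hs) hs1, Z.le hs⟩).1 : G)) hh
    simp only [act_apply, Equiv.Perm.coe_one, id_eq] at h1
    exact mul_inv_eq_iff_eq_mul.1 h1

/-- An element of order 7 in `H` centralizes no involution of `H`. -/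
theorem seven_no_fix {y : G} (hy : y ∈ Z.H) (hyo : orderOf y = 7) {t : G} (ht : orderOf t = 2)
    (htH : t ∈ Z.H) : y * t * y⁻¹ ≠ t := by
  classical
  intro hfix
  haveI := Fintype.ofFinite (Invs Z)
  haveI : Fact (Nat.Prime 7) := ⟨by norm_num⟩
  have hy7 : (⟨y, hy⟩ : Z.H) ^ 7 = 1 := Subtype.ext (hyo ▸ pow_orderOf_eq_one y)
  have hpow : act Z ⟨y, hy⟩ ^ 7 = 1 := by rw [← map_pow, hy7, map_one]
  rcases (Nat.dvd_prime (by norm_num)).1 (orderOf_dvd_of_pow_eq_one hpow) with h | h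
  · have hS := mem_S_of_act_eq_one Z (orderOf_eq_one_iff.1 h)
    have : orderOf y ∣ 2 := orderOf_dvd_of_pow_eq_one (Z.sq y hS)
    rw [hyo] at this; norm_num at this
  · have h7 : Fintype.card (Invs Z) = 7 := by rw [← Nat.card_eq_fintype_card, card_invs]
    have hc := (Equiv.Perm.isCycle_of_prime_order'' (by rw [h7]; norm_num) (by rw [h, h7]))
    have hsupp : (act Z ⟨y, hy⟩).support.card = 7 := hc.orderOf.symm.trans h
    have hu : (act Z ⟨y, hy⟩).support = Finset.univ :=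
      Finset.eq_univ_of_card _ (hsupp.trans h7.symm)
    have hmem : (⟨t, ht, htH⟩ : Invs Z) ∈ (act Z ⟨y, hy⟩).support := hu ▸ Finset.mem_univ _
    rw [Equiv.Perm.mem_support] at hmem
    exact hmem (Subtype.ext hfix)

theorem card_centralizer_dvd {t : G} (ht : t ∈ Z.S) (hto : orderOf t = 2) :
    Nat.card ↥(centralizer ({t} : Set G)) ∣ 24 := by
  have h1 : Nat.card ↥(centralizer ({t} : Set G)) ∣ 168 := Z.cardH ▸ card_dvd_of_le (Z.centH t ht hto)
  have h7 : ¬ 7 ∣ Nat.card ↥(centralizer ({t} : Set G)) := by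
    intro h
    haveI : Fact (Nat.Prime 7) := ⟨by norm_num⟩
    obtain ⟨y, hy⟩ := exists_prime_orderOf_dvd_card' 7 h
    refine seven_no_fix Z (Z.centH t ht hto y.2) (by rwa [Subgroup.orderOf_coe]) hto (Z.le ht) ?_
    rw [mem_centralizer_singleton_iff.1 y.2, mul_inv_cancel_right]
  exact ((Nat.Prime.coprime_iff_not_dvd (by norm_num : Nat.Prime 7)).2 h7).symm.dvd_of_dvd_mul_right
    (show Nat.card ↥(centralizer ({t} : Set G)) ∣ 24 * 7 from h1)

/-- Involution centralizers have order dividing 24. -/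
theorem card_centralizer_invol_dvd {t : G} (hto : orderOf t = 2) :
    Nat.card ↥(centralizer ({t} : Set G)) ∣ 24 := by
  obtain ⟨s, hsH, hso⟩ := CfsgLib.Invol.exists_invol_mem Z.hH.2.1
  obtain ⟨g, hg⟩ := isConj_iff.1 (CfsgLib.Invol.exists_conj_fixing Z.hH hso hto)
  refine dvd_trans (dvd_of_eq ?_) (card_centralizer_dvd Z (invol_mem_S Z hsH hso) hso)
  have e : centralizer ({t} : Set G) = (centralizer ({s} : Set G)).map (MulAut.conj g).toMonoidHom := by
    ext x
    rw [Subgroup.mem_map_equiv, mem_centralizer_singleton_iff, mem_centralizer_singleton_iff, ← hg]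
    show _ ↔ g⁻¹ * x * g * s = s * (g⁻¹ * x * g)
    constructor <;> intro h
    · calc g⁻¹ * x * g * s = g⁻¹ * (x * (g * s * g⁻¹)) * g := by group
        _ = g⁻¹ * ((g * s * g⁻¹) * x) * g := by rw [h]
        _ = s * (g⁻¹ * x * g) := by group
    · calc x * (g * s * g⁻¹) = g * (g⁻¹ * x * g * s) * g⁻¹ := by group
        _ = g * (s * (g⁻¹ * x * g)) * g⁻¹ := by rw [h]
        _ = g * s * g⁻¹ * x := by group
  rw [e, card_map_of_injective (MulAut.conj g).injective]

theorem no_seven_commute {t y : G} (ht : orderOf t = 2) (hy : orderOf y = 7) : ¬ Commute y t := by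
  intro h
  have h1 := (Subgroup.orderOf_dvd_natCard (centralizer ({t} : Set G))
    (mem_centralizer_singleton_iff.2 h.eq)).trans (card_centralizer_invol_dvd Z ht)
  rw [hy] at h1; norm_num at h1

/-- Elements of `H` commuting with an element of order 7 are powers of it. -/
theorem mem_zpowers_of_commute {y c : G} (hy : y ∈ Z.H) (hyo : orderOf y = 7) (hc : c ∈ Z.H)
    (h : Commute c y) : c ∈ zpowers y := by
  classical
  obtain ⟨t, htH, hto⟩ := CfsgLib.Invol.exists_invol_mem Z.hH.2.1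
  have horb : Function.Bijective (fun j : Fin 7 =>
      (⟨y ^ j.val * t * (y ^ j.val)⁻¹, conj_invs Z (pow_mem hy _) ⟨hto, htH⟩⟩ : Invs Z)) := by
    refine (Nat.bijective_iff_injective_and_card _).2 ⟨fun i j hij => ?_, by simp [card_invs]⟩
    have hij' : y ^ i.val * t * (y ^ i.val)⁻¹ = y ^ j.val * t * (y ^ j.val)⁻¹ := congrArg Subtype.val hij
    by_contra hne
    obtain ⟨k, hk⟩ : ∃ k, k = (j.val : ℤ) - (i.val : ℤ) := ⟨_, rfl⟩
    have hkt : Commute (y ^ k) t := by
      have e : y ^ k = (y ^ i.val)⁻¹ * y ^ j.val := by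
        rw [hk, zpow_sub, zpow_natCast, zpow_natCast]
        exact ((Commute.refl y).pow_pow _ _).inv_right.eq
      rw [e]
      show (y ^ i.val)⁻¹ * y ^ j.val * t = t * ((y ^ i.val)⁻¹ * y ^ j.val)
      calc (y ^ i.val)⁻¹ * y ^ j.val * t
          = (y ^ i.val)⁻¹ * (y ^ j.val * t * (y ^ j.val)⁻¹) * y ^ j.val := by group
        _ = (y ^ i.val)⁻¹ * (y ^ i.val * t * (y ^ i.val)⁻¹) * y ^ j.val := by rw [hij']
        _ = t * ((y ^ i.val)⁻¹ * y ^ j.val) := by group
    refine no_seven_commute Z hto ?_ hkt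
    haveI : Fact (Nat.Prime 7) := ⟨by norm_num⟩
    refine orderOf_eq_prime ?_ ?_
    · rw [← zpow_natCast, ← zpow_mul, mul_comm, zpow_mul, zpow_natCast, ← hyo, pow_orderOf_eq_one,
        one_zpow]
    · intro hk1
      have hd : ((7 : ℕ) : ℤ) ∣ k := hyo ▸ orderOf_dvd_iff_zpow_eq_one.2 hk1
      rw [hk] at hd
      apply hne
      have := i.2; have := j.2
      exact Fin.ext (by omega)
  obtain ⟨j, hj⟩ := horb.2 ⟨c * t * c⁻¹, conj_invs Z hc ⟨hto, htH⟩⟩
  have hj' : y ^ j.val * t * (y ^ j.val)⁻¹ = c * t * c⁻¹ := congrArg Subtype.val hj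
  obtain ⟨d, hd⟩ : ∃ d, d = (y ^ j.val)⁻¹ * c := ⟨_, rfl⟩
  have hdy : Commute d y := hd ▸ (((Commute.refl y).pow_left _).inv_left).mul_left h
  have hdt : Commute d t := by
    show d * t = t * d
    calc d * t = (y ^ j.val)⁻¹ * (c * t * c⁻¹) * c := by rw [hd]; group
      _ = (y ^ j.val)⁻¹ * (y ^ j.val * t * (y ^ j.val)⁻¹) * c := by rw [hj']
      _ = t * d := by rw [hd]; group
  have hdS : d ∈ Z.S := by
    refine Z.cent d fun s hs => ?_
    by_cases hs1 : s = 1
    · exact hs1 ▸ Commute.one_right _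
    · obtain ⟨i, hi⟩ := horb.2 ⟨s, orderOf_eq_prime (hp := ⟨Nat.prime_two⟩) (Z.sq s hs) hs1, Z.le hs⟩
      have hi' : y ^ i.val * t * (y ^ i.val)⁻¹ = s := congrArg Subtype.val hi
      rw [← hi']
      exact ((hdy.pow_right _).mul_right hdt).mul_right (hdy.pow_right _).inv_right
  by_cases hd1 : d = 1
  · have : c = y ^ j.val := by
      rw [hd, inv_mul_eq_one] at hd1; exact hd1.symm
    exact this ▸ pow_mem (mem_zpowers y) _
  · exact absurd hdy.symm (no_seven_commute Z (orderOf_eq_prime (hp := ⟨Nat.prime_two⟩) (Z.sq d hdS) hd1)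
      hyo)

local notation "o" => (((1 : G) : G) : G ⧸ Z.H)

theorem smul_o_iff {g : G} : g • o = o ↔ g ∈ Z.H := CfsgLib.Invol.fixed_one_iff

/-- An involution centralizer fixes a point. -/
theorem exists_fix_centralizer {t : G} (ht : orderOf t = 2) :
    ∃ a : G ⧸ Z.H, t • a = a ∧ ∀ c : G, Commute c t → c • a = a := by
  obtain ⟨a, ha⟩ : ∃ a : G ⧸ Z.H, t • a = a := by
    obtain ⟨s, hsH, hso⟩ := CfsgLib.Invol.exists_invol_mem Z.hH.2.1
    obtain ⟨g, hg⟩ := isConj_iff.1 (CfsgLib.Invol.exists_conj_fixing Z.hH hso ht)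
    exact ⟨g • o, by rw [← hg, CfsgLib.Invol.conj_fixes]; exact (smul_o_iff Z).2 hsH⟩
  refine ⟨a, ha, fun c hc => CfsgLib.Invol.fixed_unique Z.hH ht ?_ ha⟩
  rw [smul_smul, hc.symm.eq, mul_smul, ha]

/-- No element of `H` of order two fixes a second point. -/
theorem exists_inverter {x : G ⧸ Z.H} (hx : x ≠ o) :
    ∃ u : G, orderOf u = 2 ∧ u • o = x ∧
      ∃ y ∈ Z.H, orderOf y = 7 ∧ y • x = x ∧ u * y * u⁻¹ = y⁻¹ ∧
        ∀ y' ∈ Z.H, orderOf y' = 7 → y' • x = x → y' ∈ zpowers y := by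
  classical
  have hcard := CfsgLib.Invol.card_swap_eq Z.hH o x (Ne.symm hx)
  rw [card_invs] at hcard
  obtain ⟨⟨u, hu, hux⟩⟩ : Nonempty {i : G // orderOf i = 2 ∧ i • o = x} :=
    (Nat.card_pos_iff.1 (by omega)).1
  obtain ⟨D, hD⟩ : ∃ D : Subgroup G, D = Z.H ⊓ stabilizer G x := ⟨_, rfl⟩
  have hDmap : D = Z.H ⊓ Z.H.map (MulAut.conj u).toMonoidHom := by
    rw [hD]
    congr 1
    ext g
    rw [mem_stabilizer_iff, Subgroup.mem_map_equiv]
    show g • x = x ↔ u⁻¹ * g * u ∈ Z.H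
    rw [← smul_o_iff Z, mul_smul, mul_smul, hux, inv_smul_eq_iff, hux]
  have hDH : Nat.card D ∣ 168 := Z.cardH ▸ card_dvd_of_le (hD ▸ inf_le_left)
  have hDodd : ¬ 2 ∣ Nat.card D := by
    intro h2
    haveI : Fact (Nat.Prime 2) := ⟨Nat.prime_two⟩
    obtain ⟨d, hd⟩ := exists_prime_orderOf_dvd_card' 2 h2
    rw [← Subgroup.orderOf_coe] at hd
    have hd' : (d : G) ∈ Z.H ⊓ stabilizer G x := hD ▸ d.2
    exact hx (CfsgLib.Invol.fixed_unique Z.hH hd (mem_stabilizer_iff.1 hd'.2) ((smul_o_iff Z).2 hd'.1))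
  have hD21 : Nat.card D ∣ 21 := by
    refine (((Nat.Prime.coprime_iff_not_dvd Nat.prime_two).2 hDodd).symm.pow_right 3).dvd_of_dvd_mul_left ?_
    simpa using hDH
  -- `D` is transitive on the seven involutions
  have h7 : 7 ≤ Nat.card D := by
    obtain ⟨t, htH, hto⟩ := CfsgLib.Invol.exists_invol_mem Z.hH.2.1
    rw [← card_invs Z]
    refine Nat.card_le_card_of_surjective (fun d : D =>
      (⟨(d : G) * t * (d : G)⁻¹, conj_invs Z ((hD ▸ d.2 : (d : G) ∈ Z.H ⊓ stabilizer G x).1) ⟨hto, htH⟩⟩ :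
        Invs Z)) fun s => ?_
    obtain ⟨d, hd, hds⟩ := CfsgLib.Invol.transitive_two_point Z.hH (u := u) hto htH s.2.2 s.2.1
    exact ⟨⟨d, hDmap ▸ hd⟩, Subtype.ext hds⟩
  have h7d : 7 ∣ Nat.card D := by
    have hle := Nat.le_of_dvd (by norm_num) hD21
    interval_cases h : Nat.card D <;> omega
  haveI : Fact (Nat.Prime 7) := ⟨by norm_num⟩
  obtain ⟨y, hy⟩ := exists_prime_orderOf_dvd_card' 7 h7d
  rw [← Subgroup.orderOf_coe] at hy
  have hyD : (y : G) ∈ Z.H ⊓ stabilizer G x := hD ▸ y.2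
  have huniq : ∀ y' ∈ Z.H, orderOf y' = 7 → y' • x = x → y' ∈ zpowers (y : G) := by
    intro y' hy' hy'o hy'x
    by_contra hnot
    have hy'D : y' ∈ D := hD ▸ mem_inf.2 ⟨hy', mem_stabilizer_iff.2 hy'x⟩
    have hinj : Function.Injective (fun p : zpowers (y : G) × zpowers y' =>
        (⟨(p.1 : G) * p.2, mul_mem (zpowers_le.2 y.2 p.1.2) (zpowers_le.2 hy'D p.2.2)⟩ : D)) := by
      have hdis : Disjoint (zpowers (y : G)) (zpowers y') := by
        rw [disjoint_iff]
        have hd := card_dvd_of_le (inf_le_left : zpowers (y : G) ⊓ zpowers y' ≤ zpowers (y : G))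
        rw [Nat.card_zpowers, hy] at hd
        rcases (Nat.dvd_prime (by norm_num)).1 hd with h | h
        · exact Subgroup.eq_bot_of_card_eq _ h
        · exfalso
          have hd2 := Subgroup.eq_of_le_of_card_ge
            (inf_le_right : zpowers (y : G) ⊓ zpowers y' ≤ zpowers y')
            (by rw [h, Nat.card_zpowers, hy'o])
          exact hnot ((hd2.ge (mem_zpowers y')).1)
      intro p q hpq
      exact Subgroup.mul_injective_of_disjoint hdis (congrArg Subtype.val hpq)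
    have hle := Nat.card_le_card_of_injective _ hinj
    rw [Nat.card_prod, Nat.card_zpowers, Nat.card_zpowers, hy, hy'o] at hle
    have := Nat.le_of_dvd (by norm_num) hD21
    omega
  refine ⟨u, hu, hux, (y : G), hyD.1, hy, mem_stabilizer_iff.1 hyD.2, ?_, huniq⟩
  -- `u` normalizes the subgroup of order seven and does not centralize it
  have hu2 : u * u = 1 := CfsgLib.Invol.invol_mul_self hu
  have hmem : u * (y : G) * u⁻¹ ∈ zpowers (y : G) := by
    have h : (y : G) ∈ Z.H ⊓ Z.H.map (MulAut.conj u).toMonoidHom := hDmap ▸ y.2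
    obtain ⟨h1, w, hw, hwe⟩ := h
    have hin : u * (y : G) * u⁻¹ ∈ Z.H := by
      rw [← hwe]
      show u * (u * w * u⁻¹) * u⁻¹ ∈ Z.H
      rw [CfsgLib.Invol.invol_inv hu, ← mul_assoc, ← mul_assoc, hu2, one_mul, mul_assoc, hu2, mul_one]
      exact hw
    refine huniq _ hin ((orderOf_injective (MulAut.conj u).toMonoidHom (MulAut.conj u).injective (y : G)).trans hy) ?_
    rw [← hux, CfsgLib.Invol.conj_fixes, smul_o_iff Z]
    exact h1
  obtain ⟨k, hk⟩ := hmem
  have hk' : u * (y : G) * u⁻¹ = (y : G) ^ k := hk.symm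
  have htwice : ((y : G) ^ k) ^ k = y := by
    calc ((y : G) ^ k) ^ k = (u * (y : G) * u⁻¹) ^ k := by rw [hk']
      _ = u * (y : G) ^ k * u⁻¹ := conj_zpow
      _ = u * (u * (y : G) * u⁻¹) * u⁻¹ := by rw [hk']
      _ = y := by rw [CfsgLib.Invol.invol_inv hu, ← mul_assoc, ← mul_assoc, hu2, one_mul, mul_assoc,
        hu2, mul_one]
  have hd : ((7 : ℕ) : ℤ) ∣ k * k - 1 := hy ▸ orderOf_dvd_iff_zpow_eq_one.2 (by
    rw [zpow_sub, zpow_mul, htwice, zpow_one, mul_inv_cancel])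
  rw [show k * k - 1 = (k - 1) * (k + 1) by ring] at hd
  rcases ((Nat.prime_iff_prime_int.1 (by norm_num : Nat.Prime 7)).dvd_mul.1 hd) with h | h
  · exfalso
    obtain ⟨l, hl⟩ := h
    refine no_seven_commute Z hu hy ?_
    have hyu : u * (y : G) * u⁻¹ = y := by
      rw [hk', show k = ((7 : ℕ) : ℤ) * l + 1 by omega, zpow_add, zpow_mul, zpow_natCast, ← hy,
        pow_orderOf_eq_one, one_zpow, one_mul, zpow_one]
    exact (mul_inv_eq_iff_eq_mul.1 hyu).symm
  · obtain ⟨l, hl⟩ := h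
    rw [hk', show k = ((7 : ℕ) : ℤ) * l + (-1) by omega, zpow_add, zpow_mul, zpow_natCast, ← hy,
      pow_orderOf_eq_one, one_zpow, one_mul, zpow_neg_one]

end CfsgLib.ElemEight
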